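import Mathlib
import Cfsg.Agent.Solvable.PGroupRank

/-!
Two exceptional `p`-elements acting on an elementary abelian `2`-group: the powers which move it
commute.
-/

set_option autoImplicit false
set_option linter.style.haveILetI false

namespace CfsgLib.HHExponent

open Subgroup

universe u v

variable {U : Type u} [CommGroup U]

/-- The fixed points of an automorphism. -/
def fixU (φ : MulAut U) : Subgroup U where
  carrier := {u | φ u = u}
  one_mem' := map_one φ
  mul_mem' := fun {a b} ha hb => by simp only [Set.mem_ofPred_eq, map_mul] at *; rw [ha, hb]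
  inv_mem' := fun {a} ha => by simp only [Set.mem_ofPred_eq, map_inv] at *; rw [ha]

theorem mem_fixU {φ : MulAut U} {u : U} : u ∈ fixU φ ↔ φ u = u := Iff.rfl

theorem pow_apply_eq_self {φ : MulAut U} {u : U} (h : φ u = u) : ∀ k : ℕ, (φ ^ k) u = u
  | 0 => by simp
  | k + 1 => by rw [pow_succ, MulAut.mul_apply, h, pow_apply_eq_self h k]

theorem pow_odd {u : U} {n : ℕ} (h2 : u ^ 2 = 1) (hn : Odd n) : u ^ n = u := by
  obtain ⟨k, rfl⟩ := hn
  rw [pow_succ, pow_mul, h2, one_pow, one_mul]

/-- `z` is a power of `x` which moves an exceptional section. -/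
def Exc {T : Type v} [Group T] (p : ℕ) (α : T →* MulAut U) (x z : T) : Prop :=
  α z = 1 ∨ ∃ j k : ℕ, z = x ^ p ^ j ∧ (∀ u, α z u = u → α x u = u) ∧ p ^ (j + 1) = 2 ^ k + 1 ∧
    Nat.card U ∣ (2 ^ k) ^ 2 * Nat.card (fixU (α z))

section Restrict

variable {T : Type v} [Group T] (α : T →* MulAut U) (W : Subgroup U)
  (hW : ∀ t, ∀ u ∈ W, α t u ∈ W)

/-- The action on an invariant subgroup. -/
def restrictAct : T →* MulAut W where
  toFun t :=
    { toFun := fun w => ⟨α t w, hW t w w.2⟩
      invFun := fun w => ⟨α t⁻¹ w, hW t⁻¹ w w.2⟩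
      left_inv := fun w => Subtype.ext (by simp [map_inv])
      right_inv := fun w => Subtype.ext (by simp [map_inv])
      map_mul' := fun a b => Subtype.ext (by simp) }
  map_one' := by ext w; simp
  map_mul' s t := by ext w; simp

theorem restrictAct_apply (t : T) (w : W) : ((restrictAct α W hW t w : W) : U) = α t w := rfl

/-- The action on an invariant quotient. -/
def quotAct : T →* MulAut (U ⧸ W) where
  toFun t :=
    { toFun := QuotientGroup.map W W (α t).toMonoidHom fun u hu => hW t u hu
      invFun := QuotientGroup.map W W (α t⁻¹).toMonoidHom fun u hu => hW t⁻¹ u hu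
      left_inv := fun a => by
        induction a using QuotientGroup.induction_on with
        | H u => simp [map_inv]
      right_inv := fun a => by
        induction a using QuotientGroup.induction_on with
        | H u => simp [map_inv]
      map_mul' := map_mul _ }
  map_one' := by
    ext a
    induction a using QuotientGroup.induction_on with
    | H u => simp
  map_mul' s t := by
    ext a
    induction a using QuotientGroup.induction_on with
    | H u => simp

theorem quotAct_mk (t : T) (u : U) : quotAct α W hW t (u : U ⧸ W) = ((α t u : U) : U ⧸ W) := rfl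

end Restrict

variable [Finite U] {p : ℕ} [hp : Fact p.Prime]

omit hp in
theorem Exc.restrict {T : Type v} [Group T] {α : T →* MulAut U} {x z : T} (h : Exc p α x z)
    (W : Subgroup U) (hW : ∀ t, ∀ u ∈ W, α t u ∈ W) : Exc p (restrictAct α W hW) x z := by
  rcases h with h | ⟨j, k, hz, hfix, hk, hd⟩
  · left
    ext w
    simp [restrictAct_apply, h]
  · refine Or.inr ⟨j, k, hz, fun w hw => Subtype.ext (hfix w (congrArg Subtype.val hw)), hk, ?_⟩
    set F := fixU (α z) with hF
    have hFW : Nat.card (fixU (restrictAct α W hW z)) = Nat.card (F.subgroupOf W) := by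
      refine Nat.card_congr (Equiv.subtypeEquivRight fun w => ?_)
      exact ⟨fun hw => congrArg Subtype.val hw, fun hw => Subtype.ext hw⟩
    have h1 : F.index ∣ (2 ^ k) ^ 2 := by
      rw [← Subgroup.card_mul_index F, mul_comm ((2 ^ k) ^ 2)] at hd
      exact Nat.dvd_of_mul_dvd_mul_left Nat.card_pos hd
    have h2 : F.relIndex W ∣ F.index := Subgroup.relIndex_dvd_index_of_normal F W
    rw [hFW, ← Subgroup.card_mul_index (F.subgroupOf W)]
    rw [mul_comm ((2 ^ k) ^ 2)]
    exact mul_dvd_mul_left _ (h2.trans h1)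

theorem Exc.quot {T : Type v} [Group T] [Finite T] (hp2 : p ≠ 2) (hT : IsPGroup p T)
    {α : T →* MulAut U} (h2 : ∀ u : U, u ^ 2 = 1) {x z : T} (h : Exc p α x z)
    (W : Subgroup U) (hW : ∀ t, ∀ u ∈ W, α t u ∈ W) : Exc p (quotAct α W hW) x z := by
  rcases h with h | ⟨j, k, hz, hfix, hk, hd⟩
  · left
    ext a
    induction a using QuotientGroup.induction_on with
    | H u => simp [quotAct_mk, h]
  · obtain ⟨i, hi⟩ := hT z
    have hzi : (α z) ^ p ^ i = 1 := by rw [← map_pow, hi, map_one]
    have hodd : Odd (p ^ i) := (hp.out.odd_of_ne_two hp2).pow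
    -- fixed cosets contain fixed points
    have hlift : ∀ u : U, quotAct α W hW z (u : U ⧸ W) = u →
        ∃ f : U, α z f = f ∧ (f : U ⧸ W) = u := by
      intro u hu
      rw [quotAct_mk] at hu
      refine ⟨∏ l ∈ Finset.range (p ^ i), ((α z) ^ l) u, ?_, ?_⟩
      · rw [map_prod]
        have e : ∀ l, α z (((α z) ^ l) u) = ((α z) ^ (l + 1)) u := fun l => by
          rw [pow_succ', MulAut.mul_apply]
        simp only [e]
        have h1 := Finset.prod_range_succ' (fun l => ((α z) ^ l) u) (p ^ i)
        rw [Finset.prod_range_succ, hzi, pow_zero] at h1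
        exact mul_right_cancel h1.symm
      · rw [← QuotientGroup.mk'_apply, map_prod]
        have e : ∀ l : ℕ, QuotientGroup.mk' W (((α z) ^ l) u) = (u : U ⧸ W) := by
          intro l
          induction l with
          | zero => simp
          | succ l ih =>
            rw [pow_succ', MulAut.mul_apply, QuotientGroup.mk'_apply] at *
            rw [← quotAct_mk α W hW z, ih, quotAct_mk, hu]
        simp only [e, Finset.prod_const, Finset.card_range]
        rw [← QuotientGroup.mk_pow, pow_odd (h2 u) hodd]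
    refine Or.inr ⟨j, k, hz, ?_, hk, ?_⟩
    · intro a
      induction a using QuotientGroup.induction_on with
      | H u =>
        intro hu
        obtain ⟨f, hf, hfu⟩ := hlift u hu
        rw [← hfu, quotAct_mk, hfix f hf]
    · have e : fixU (quotAct α W hW z) = (fixU (α z)).map (QuotientGroup.mk' W) := by
        ext a
        induction a using QuotientGroup.induction_on with
        | H u =>
          constructor
          · intro hu
            obtain ⟨f, hf, hfu⟩ := hlift u hu
            exact ⟨f, hf, hfu⟩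
          · rintro ⟨f, hf, hfu⟩
            rw [mem_fixU, ← hfu, QuotientGroup.mk'_apply, quotAct_mk, hf]
      have h1 : (fixU (α z)).index ∣ (2 ^ k) ^ 2 := by
        rw [← Subgroup.card_mul_index (fixU (α z)), mul_comm ((2 ^ k) ^ 2)] at hd
        exact Nat.dvd_of_mul_dvd_mul_left Nat.card_pos hd
      rw [e, ← Subgroup.card_mul_index ((fixU (α z)).map (QuotientGroup.mk' W)),
        mul_comm ((2 ^ k) ^ 2)]
      exact mul_dvd_mul_left _ ((Subgroup.index_map_dvd _ (QuotientGroup.mk'_surjective W)).trans h1)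

theorem small_fermat {p j k : ℕ} [hp : Fact p.Prime] (hp2 : p ≠ 2) (h : p ^ (j + 1) = 2 ^ k + 1) :
    j = 0 ∨ p = 3 ∧ j = 1 := by
  have hodd : Odd p := hp.out.odd_of_ne_two hp2
  rcases Nat.even_or_odd (j + 1) with ⟨m, hm⟩ | hj
  · right
    set q := p ^ m with hq
    have hq3 : 3 ≤ q := by
      have h3 : 3 ≤ p := by
        have := hp.out.two_le
        obtain ⟨r, hr⟩ := hodd
        omega
      exact h3.trans (Nat.le_self_pow (by omega) p)
    have hfac : (q + 1) * (q - 1) = 2 ^ k := by
      have h1 : q * q = 2 ^ k + 1 := by rw [← h, hm, pow_add]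
      rw [show q * q = q ^ 2 from (sq q).symm] at h1
      have h2 := Nat.sq_sub_sq q 1
      simp only [one_pow] at h2
      rw [← h2, h1, Nat.add_sub_cancel]
    obtain ⟨a, -, ha⟩ := (Nat.dvd_prime_pow Nat.prime_two).1 (Dvd.intro _ hfac)
    obtain ⟨b, -, hb⟩ := (Nat.dvd_prime_pow Nat.prime_two).1 (Dvd.intro_left _ hfac)
    have hba : b < a := (Nat.pow_lt_pow_iff_right one_lt_two).1 (by omega : 2 ^ b < 2 ^ a)
    obtain ⟨c, rfl⟩ := Nat.exists_eq_add_of_lt hba
    rw [pow_succ, pow_add] at ha
    have h2c : 1 ≤ 2 ^ c := Nat.one_le_two_pow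
    have hb2 : 2 ^ b = 2 := by
      have h4 : 2 ^ b * 2 ^ c * 2 = 2 ^ b + 2 := by omega
      have h5 : 2 ^ b * (2 * 2 ^ c - 1) = 2 := by
        rw [Nat.mul_sub, mul_one]
        have : 2 ^ b * (2 * 2 ^ c) = 2 ^ b * 2 ^ c * 2 := by ring
        omega
      have h7 := Nat.le_of_dvd two_pos (Dvd.intro _ h5)
      omega
    have hqeq : q = 3 := by omega
    obtain ⟨hp3, hm1⟩ := (Nat.Prime.pow_eq_iff Nat.prime_three).1 hqeq
    exact ⟨hp3, by omega⟩
  · left
    have hdiv : (p - 1) * ∑ i ∈ Finset.range (j + 1), p ^ i = 2 ^ k := by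
      have h1 : (p ^ (j + 1) : ℕ) - 1 = 2 ^ k := by rw [h, Nat.add_sub_cancel]
      rw [← h1, mul_comm]
      exact (geom_sum_mul_of_one_le hp.out.one_le (j + 1))
    have hsodd : Odd (∑ i ∈ Finset.range (j + 1), p ^ i) := by
      rw [Finset.odd_sum_iff_odd_card_odd, Finset.filter_true_of_mem fun i _ => hodd.pow,
        Finset.card_range]
      exact hj
    obtain ⟨a, -, ha⟩ := (Nat.dvd_prime_pow Nat.prime_two).1 (Dvd.intro_left _ hdiv)
    rcases Nat.eq_zero_or_pos a with rfl | ha0
    · by_contra hj0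
      rw [Finset.sum_range_succ', pow_zero, pow_zero] at ha
      have : 0 < ∑ i ∈ Finset.range j, p ^ (i + 1) :=
        Finset.sum_pos (fun i _ => pow_pos hp.out.pos _) (Finset.nonempty_range_iff.2 hj0)
      omega
    · rw [ha] at hsodd
      exact absurd hsodd (Nat.not_odd_iff_even.2 (Nat.even_pow.2 ⟨even_two, ha0.ne'⟩))

/-- Components of a non-central normal subgroup of order `p ^ 2`. -/
theorem irreducible_case (hp2 : p ≠ 2) (h2 : ∀ u : U, u ^ 2 = 1) (A : Subgroup (MulAut U))
    (hA : IsPGroup p A)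
    (hirr : ∀ W : Subgroup U, (∀ t ∈ A, ∀ u ∈ W, t u ∈ W) → W = ⊥ ∨ W = ⊤)
    (hnc : ¬ IsCyclic A) :
    ∃ a ∈ A, (∃ t ∈ A, t * a ≠ a * t) ∧
      ∀ x ∈ A, x * a ≠ a * x → ∀ j k : ℕ, (∀ u, (x ^ p ^ j) u = u → x u = u) →
        p ^ (j + 1) = 2 ^ k + 1 → Nat.card U ∣ (2 ^ k) ^ 2 * Nat.card (fixU (x ^ p ^ j)) →
        ∀ t ∈ A, x ^ p ^ j * t = t * x ^ p ^ j := by
  classical
  haveI : Finite (MulAut U) :=
    Finite.of_injective (fun e : MulAut U => (e : U → U)) DFunLike.coe_injective
  haveI := hA.isNilpotent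
  obtain ⟨E, hEn, hEe, hEc⟩ := CfsgLib.PGroupRank.exists_normal_sq hp2 hA hnc
  have hEne : E ≠ ⊥ := fun h => by
    rw [h, Subgroup.card_bot] at hEc
    exact absurd hEc (Nat.one_lt_pow two_ne_zero hp.out.one_lt).ne
  obtain ⟨c, hc1⟩ := (Subgroup.ne_bot_iff_exists_ne_one).1
    (CfsgLib.PGroupBasic.inf_center_ne_bot E hEne)
  obtain ⟨hcE, hcZ⟩ := c.2
  replace hc1 : (c : A) ≠ 1 := fun h => hc1 (Subtype.ext h)
  set C := zpowers (c : A) with hCdef
  haveI : C.Normal := ⟨fun y hy g => by
    have hyZ : y ∈ center A := (zpowers_le.2 hcZ) hy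
    rw [(mem_center_iff.1 hyZ g), mul_inv_cancel_right]
    exact hy⟩
  have hco : orderOf (c : A) = p := orderOf_eq_prime (hEe.2 _ hcE) hc1
  have hCE : C < E := lt_of_le_of_ne (zpowers_le.2 hcE) fun e => by
    rw [← e, Nat.card_zpowers, hco, pow_two] at hEc
    exact (Nat.lt_mul_self_iff.2 hp.out.one_lt).ne hEc
  obtain ⟨a, haE, haC, hac⟩ := CfsgLib.PGroupBasic.exists_central_mod C E hCE
  -- the shift
  have hs : ∀ t : A, ∃ s : ℕ, t * a * t⁻¹ = a * (c : A) ^ s := by
    intro t
    obtain ⟨n, hn⟩ := mem_powers_iff_mem_zpowers.2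
      (show a⁻¹ * (t * a * t⁻¹) ∈ C by
        have := hac t
        have h' : t * a * t⁻¹ * a⁻¹ ∈ C := by simpa [mul_assoc] using inv_mem this
        exact (inferInstance : C.Normal).mem_comm h')
    exact ⟨n, by rw [show (c : A) ^ n = a⁻¹ * (t * a * t⁻¹) from hn]; group⟩
  choose s hs using hs
  have hca : Commute a (c : A) := Subgroup.mem_center_iff.1 hcZ a
  let g : ℕ → A := fun i => a * (c : A) ^ i
  have hgp : ∀ i, g i ^ p = 1 := fun i => by
    show (a * (c : A) ^ i) ^ p = 1
    rw [(hca.pow_right i).mul_pow, ← pow_mul, mul_comm i, pow_mul, hEe.2 _ haE, hEe.2 _ hcE,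
      one_pow, one_mul]
  have hgc : ∀ i l, Commute (g i) (g l) := fun i l =>
    ((Commute.refl a).mul_left (hca.symm.pow_left i)).mul_right
      ((hca.pow_right l).mul_left (Commute.pow_pow_self (c : A) i l))
  -- fixed points
  let app : A → U → U := fun t u => (t : MulAut U) u
  have happ : ∀ (s t : A) (u : U), app (s * t) u = app s (app t u) := fun s t u => rfl
  have hinv : ∀ (t : A) (u : U), app t⁻¹ (app t u) = u := fun t u => by
    rw [← happ, inv_mul_cancel]; rfl
  have happ_pow : ∀ (t : A) (u : U), app t u = u → ∀ n : ℕ, app (t ^ n) u = u := fun t u h n => by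
    show ((t ^ n : A) : MulAut U) u = u
    rw [SubgroupClass.coe_pow]
    exact pow_apply_eq_self h n
  have hconjfix : ∀ (t h : A) (u : U), app h u = u → app (t * h * t⁻¹) (app t u) = app t u := by
    intro t h u hu
    rw [← happ, inv_mul_cancel_right, happ, hu]
  have hcentral : ∀ h : A, h ∈ center A → ∀ u : U, app h u = u → u ≠ 1 → h = 1 := by
    intro h hh u hu hu1
    rcases hirr (fixU (h : MulAut U)) (fun t ht v hv => by
      have := hconjfix ⟨t, ht⟩ h v hv
      rwa [(mem_center_iff.1 hh _), mul_inv_cancel_right] at this) with e | e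
    · exact absurd ((Subgroup.mem_bot).1 (e ▸ (show u ∈ fixU (h : MulAut U) from hu))) hu1
    · refine Subtype.ext (MulEquiv.ext fun v => ?_)
      exact (e.ge (Subgroup.mem_top v) : v ∈ fixU (h : MulAut U))
  have hcfix : ∀ u : U, app (c : A) u = u → u = 1 := fun u hu => by
    by_contra h
    exact hc1 (hcentral _ hcZ u hu h)
  have hcmod : ∀ i l : ℕ, (c : A) ^ i = (c : A) ^ l ↔ (i : ZMod p) = (l : ZMod p) := fun i l => by
    rw [pow_eq_pow_iff_modEq, hco, ZMod.natCast_eq_natCast_iff]
  have hcp : ∀ {n : ℕ}, (n : ZMod p) ≠ 0 → ∀ u, app ((c : A) ^ n) u = u → u = 1 := by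
    intro n hn u hu
    have hcop : (orderOf (c : A)).Coprime n := by
      rw [hco, hp.out.coprime_iff_not_dvd, ← ZMod.natCast_eq_zero_iff] at *
      exact hn
    obtain ⟨m, hm⟩ := exists_pow_eq_self_of_coprime (x := (c : A)) hcop.symm
    exact hcfix u (by rw [← hm]; exact happ_pow _ u hu m)
  -- the projections
  let Nm : A → U →* U := fun h =>
    ∏ l ∈ Finset.range p, (((h ^ l : A) : MulAut U).toMonoidHom : U →* U)
  have hNm : ∀ h u, Nm h u = ∏ l ∈ Finset.range p, app (h ^ l) u := fun h u => by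
    simp only [Nm, MonoidHom.finsetProd_apply]
    rfl
  have hNfix : ∀ h : A, h ^ p = 1 → ∀ u, app h (Nm h u) = Nm h u := by
    intro h hh u
    rw [hNm]
    show (h : MulAut U) (∏ l ∈ Finset.range p, app (h ^ l) u) = _
    rw [map_prod]
    have e : ∀ l, (h : MulAut U) (app (h ^ l) u) = app (h ^ (l + 1)) u := fun l => by
      rw [pow_succ', happ]
    simp only [e]
    have h1 := Finset.prod_range_succ' (fun l => app (h ^ l) u) p
    rw [Finset.prod_range_succ, hh, pow_zero] at h1
    exact mul_right_cancel h1.symm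
  have hpodd : Odd p := hp.out.odd_of_ne_two hp2
  have hNid : ∀ h : A, ∀ u, app h u = u → Nm h u = u := fun h u hu => by
    rw [hNm]
    simp only [happ_pow h u hu, Finset.prod_const, Finset.card_range]
    exact pow_odd (h2 u) hpodd
  have hNc : ∀ h t : A, Commute h t → ∀ u, app t (Nm h u) = Nm h (app t u) := by
    intro h t ht u
    rw [hNm, hNm]
    show (t : MulAut U) _ = _
    rw [map_prod]
    refine Finset.prod_congr rfl fun l _ => ?_
    show app t _ = _
    rw [← happ, ← happ, (ht.pow_left l).eq]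
  let Vc : ℕ → Subgroup U := fun i => fixU (g i : MulAut U)
  have hdisj : ∀ i l : ℕ, (i : ZMod p) ≠ (l : ZMod p) → ∀ u ∈ Vc i, u ∈ Vc l → u = 1 := by
    intro i l hil u hi hl
    have hg : g i = g l * (c : A) ^ (i + (p - 1) * l) := by
      show a * (c : A) ^ i = a * (c : A) ^ l * _
      rw [mul_assoc, ← pow_add, hcmod i (l + (i + (p - 1) * l)) |>.2 ?_]
      push_cast [Nat.cast_sub hp.out.one_le]
      simp
    refine hcp (n := i + (p - 1) * l) ?_ u ?_
    · push_cast [Nat.cast_sub hp.out.one_le]
      simpa [← sub_eq_add_neg, sub_eq_zero] using hil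
    · have e : (c : A) ^ (i + (p - 1) * l) = (g l)⁻¹ * g i := by rw [hg, inv_mul_cancel_left]
      rw [e, happ, show app (g i) u = u from hi]
      conv_lhs => rw [← (show app (g l) u = u from hl)]
      exact hinv _ _
  have hdec : ∀ u : U, ∏ i ∈ Finset.range p, Nm (g i) u = u := by
    intro u
    simp only [hNm]
    rw [Finset.prod_comm, ← Finset.prod_erase_mul _ _ (Finset.mem_range.2 hp.out.pos)]
    have h0 : ∀ l ∈ (Finset.range p).erase 0, ∏ i ∈ Finset.range p, app (g i ^ l) u = 1 := by
      intro l hl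
      obtain ⟨hl0, hlp⟩ := Finset.mem_erase.1 hl
      rw [Finset.mem_range] at hlp
      have e : ∀ i, app (g i ^ l) u = (a ^ l : A).1 (app (((c : A) ^ l) ^ i) u) := fun i => by
        show app ((a * (c : A) ^ i) ^ l) u = app (a ^ l) _
        rw [← happ, (hca.pow_right i).mul_pow, ← pow_mul, ← pow_mul, mul_comm i]
      simp only [e]
      rw [← map_prod, ← hNm]
      have hlz : (l : ZMod p) ≠ 0 := by
        rw [Ne, ZMod.natCast_eq_zero_iff]
        exact Nat.not_dvd_of_pos_of_lt (Nat.pos_of_ne_zero hl0) hlp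
      rw [hcp hlz _ (hNfix _ (by rw [← pow_mul, mul_comm, pow_mul, hEe.2 _ hcE, one_pow]) u),
        map_one]
    rw [Finset.prod_eq_one h0, one_mul]
    simp only [pow_zero, Finset.prod_const, Finset.card_range]
    exact pow_odd (h2 u) hpodd
  have hmove : ∀ (t : A) (i : ℕ), ∀ u ∈ Vc i, app t u ∈ Vc (i + s t) := by
    intro t i u hu
    have h1 := hconjfix t (g i) u hu
    have e : t * g i * t⁻¹ = g (i + s t) := by
      show t * (a * (c : A) ^ i) * t⁻¹ = a * (c : A) ^ (i + s t)
      have h3 : t * (c : A) ^ i * t⁻¹ = (c : A) ^ i := by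
        rw [(mem_center_iff.1 (pow_mem hcZ i) t), mul_inv_cancel_right]
      rw [← conj_mul, hs t, h3, mul_assoc, ← pow_add, add_comm]
    rwa [e] at h1
  have hscomm : ∀ t : A, Commute t a ↔ (s t : ZMod p) = 0 := fun t => by
    rw [commute_iff_eq, ← mul_inv_eq_iff_eq_mul, hs t, ← Nat.cast_zero, ← hcmod, pow_zero,
      mul_eq_left]
  have hVmod : ∀ i l : ℕ, (i : ZMod p) = (l : ZMod p) → Vc i = Vc l := fun i l h => by
    show fixU ((a * (c : A) ^ i : A) : MulAut U) = fixU ((a * (c : A) ^ l : A) : MulAut U)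
    rw [(hcmod i l).2 h]
  -- non-central
  obtain ⟨t₀, ht₀⟩ : ∃ t : A, ¬ Commute t a := by
    by_contra! hall
    obtain ⟨u, hu⟩ : ∃ u : U, u ≠ 1 := by
      by_contra! h
      exact hc1 (Subtype.ext (MulEquiv.ext fun v => (congrArg _ (h v)).trans (by simp [h v])))
    obtain ⟨i, hi⟩ : ∃ i, Nm (g i) u ≠ 1 := by
      by_contra! h
      exact hu (by rw [← hdec u]; exact Finset.prod_eq_one fun i _ => h i)
    refine haC ?_
    have hgi : g i ∈ center A := mul_mem (mem_center_iff.2 fun t => (hall t).eq) (pow_mem hcZ i)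
    have h1 := hcentral _ hgi _ (hNfix _ (hgp i) u) hi
    rw [show g i = a * (c : A) ^ i from rfl, mul_eq_one_iff_eq_inv] at h1
    exact h1 ▸ inv_mem (pow_mem (mem_zpowers _) i)
  refine ⟨(a : MulAut U), a.2, ⟨t₀, t₀.2, fun h => ht₀ (Subtype.ext h)⟩, ?_⟩
  intro x₀ hx₀ hxa j k hfix hk hdvd t₁ ht₁
  set x : A := ⟨x₀, hx₀⟩ with hx
  have hsx : (s x : ZMod p) ≠ 0 := fun h => hxa (congrArg Subtype.val ((hscomm x).2 h).eq)
  -- every component is large
  have hV0 : Vc 0 ≠ ⊥ := by
    intro h0
    obtain ⟨u, hu⟩ : ∃ u : U, u ≠ 1 := by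
      by_contra! h
      exact hc1 (Subtype.ext (MulEquiv.ext fun v => (congrArg _ (h v)).trans (by simp [h v])))
    obtain ⟨i, hi⟩ : ∃ i, Nm (g i) u ≠ 1 := by
      by_contra! h
      exact hu (by rw [← hdec u]; exact Finset.prod_eq_one fun i _ => h i)
    have hmv : ∀ n : ℕ, ∃ v ∈ Vc (i + n * s x), v ≠ 1 := by
      intro n
      induction n with
      | zero => exact ⟨_, by rw [Nat.zero_mul, Nat.add_zero]; exact hNfix _ (hgp i) u, hi⟩
      | succ n ih =>
        obtain ⟨v, hv, hv1⟩ := ih
        refine ⟨app x v, by rw [Nat.succ_mul, ← add_assoc]; exact hmove x _ v hv, fun h => hv1 ?_⟩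
        rw [← hinv x v, h]
        exact map_one (x⁻¹ : A).1
    obtain ⟨v, hv, hv1⟩ := hmv (-(i : ZMod p) * (s x : ZMod p)⁻¹).val
    rw [hVmod _ 0 (by push_cast [ZMod.natCast_zmod_val]; field_simp; ring), h0, mem_bot] at hv
    exact hv1 hv
  have hge : p ≤ Nat.card (Vc 0) := by
    obtain ⟨v, hv, hv1⟩ := (Vc 0).bot_or_exists_ne_one.resolve_left hV0
    let f : Fin p → Vc 0 := fun l => ⟨app ((c : A) ^ (l : ℕ)) v, by
      show app (g 0) _ = _
      have h3 : app (g 0) v = v := hv
      have h4 : Commute (g 0) ((c : A) ^ (l : ℕ)) := (mem_center_iff.1 (pow_mem hcZ _) (g 0))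
      rw [← happ, h4.eq, happ, h3]⟩
    have hf : Function.Injective f := by
      have key : ∀ l m : Fin p, l.1 < m.1 → f l ≠ f m := by
        intro l m hlm h
        have h5 : app ((c : A) ^ (l : ℕ)) (app ((c : A) ^ ((m : ℕ) - l)) v) =
            app ((c : A) ^ (l : ℕ)) v := by
          rw [← happ, ← pow_add, Nat.add_sub_cancel' hlm.le]
          exact congrArg Subtype.val h.symm
        refine hv1 (hcp (n := (m : ℕ) - l) ?_ v ((((c : A) ^ (l : ℕ)) : A).1.injective h5))
        rw [Ne, ZMod.natCast_eq_zero_iff]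
        exact Nat.not_dvd_of_pos_of_lt (by omega) (by have := m.2; omega)
      intro l m h
      rcases lt_trichotomy (l : ℕ) (m : ℕ) with h' | h' | h'
      · exact absurd h (key l m h')
      · exact Fin.ext h'
      · exact absurd h.symm (key m l h')
    simpa using Nat.card_le_card_of_injective f hf
  have hcard : ∀ n : ℕ, Nat.card (Vc (n * s x)) = Nat.card (Vc 0) := by
    have hle : ∀ i, Nat.card (Vc i) ≤ Nat.card (Vc (i + s x)) := fun i =>
      Nat.card_le_card_of_injective (fun u : Vc i => (⟨app x u, hmove x i u u.2⟩ : Vc (i + s x)))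
        fun u v h => Subtype.ext ((x : MulAut U).injective (congrArg Subtype.val h))
    have hle' : ∀ m n, Nat.card (Vc (n * s x)) ≤ Nat.card (Vc ((n + m) * s x)) := by
      intro m
      induction m with
      | zero => simp
      | succ m ih => exact fun n => (ih n).trans (by rw [← add_assoc, Nat.succ_mul]; exact hle _)
    intro n
    have hp0 : ∀ m, Vc (m * p * s x) = Vc 0 := fun m => hVmod _ 0 (by simp)
    have h1 := hle' (n * p - n) n
    have h3 := hle' n 0
    rw [Nat.add_sub_cancel' (Nat.le_mul_of_pos_right n hp.out.pos), hp0] at h1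
    rw [Nat.zero_mul, Nat.zero_add] at h3
    exact le_antisymm h1 h3
  have hne1 : ((0 : ℕ) : ZMod p) ≠ ((s x : ℕ) : ZMod p) := by simpa using hsx.symm
  have hne2 : ((0 : ℕ) : ZMod p) ≠ ((2 * s x : ℕ) : ZMod p) := by
    have h2z : (2 : ZMod p) ≠ 0 := by
      have : ((2 : ℕ) : ZMod p) ≠ 0 := by
        rw [Ne, ZMod.natCast_eq_zero_iff]
        exact fun h => hp2 ((Nat.prime_dvd_prime_iff_eq hp.out Nat.prime_two).1 h)
      simpa using this
    push_cast
    exact (mul_ne_zero h2z hsx).symm
  have hne3 : ((s x : ℕ) : ZMod p) ≠ ((2 * s x : ℕ) : ZMod p) := by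
    push_cast
    intro h
    exact hsx (by linear_combination -h)
  have hproj : ∀ i l : ℕ, (i : ZMod p) ≠ (l : ZMod p) → ∀ v ∈ Vc l, Nm (g i) v = 1 := by
    intro i l h v hv
    refine hdisj i l h _ (hNfix _ (hgp i) v) ?_
    show app (g l) _ = _
    rw [hNc _ _ (hgc i l), show app (g l) v = v from hv]
  obtain rfl | ⟨rfl, rfl⟩ : j = 0 ∨ p = 3 ∧ j = 1 := small_fermat hp2 hk
  · -- a component is moved by an element with small commutator space
    exfalso
    rw [pow_zero, pow_one] at hfix hdvd
    have hk' : p = 2 ^ k + 1 := by simpa using hk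
    set F := fixU x₀ with hF
    have hinj : Function.Injective
        (fun w : Vc 0 × Vc (s x) => (((w.1 : U) * w.2 : U) : U ⧸ F)) := by
      rintro ⟨v, w⟩ ⟨v', w'⟩ h
      have h1 : app x ((v : U) * w)⁻¹ * app x ((v' : U) * w') =
          ((v : U) * w)⁻¹ * ((v' : U) * w') := by
        have := QuotientGroup.eq.1 h
        rw [← map_mul (x : MulAut U)]
        exact this
      set V := (v : U)⁻¹ * v' with hV
      set W := (w : U)⁻¹ * w' with hW
      have hVm : V ∈ Vc 0 := mul_mem (inv_mem v.2) v'.2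
      have hWm : W ∈ Vc (s x) := mul_mem (inv_mem w.2) w'.2
      have h2' : app x (V * W) = V * W := by
        have e : V * W = ((v : U) * w)⁻¹ * ((v' : U) * w') := by
          rw [hV, hW, mul_inv, mul_mul_mul_comm]
        rw [e]
        show (x : MulAut U) _ = _
        rw [map_mul]
        exact h1
      have hxV : app x V ∈ Vc (s x) := by simpa using hmove x 0 V hVm
      have hxW : app x W ∈ Vc (2 * s x) := by rw [two_mul]; exact hmove x (s x) W hWm
      have h3 : app x V * app x W = V * W := (map_mul (x : MulAut U) V W).symm.trans h2'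
      have h4 : V = 1 := by
        have := congrArg (Nm (g 0)) h3
        rw [map_mul, map_mul, hproj 0 _ hne1 _ hxV, hproj 0 _ hne2 _ hxW, hNid _ V hVm,
          hproj 0 _ hne1 _ hWm] at this
        simpa using this.symm
      have h5 : W = 1 := by
        rw [h4, show app x 1 = 1 from map_one (x : MulAut U), one_mul, one_mul] at h3
        exact hdisj _ _ hne3 W hWm (h3 ▸ hxW)
      refine Prod.ext (Subtype.ext ?_) (Subtype.ext ?_)
      · exact inv_mul_eq_one.1 h4
      · exact inv_mul_eq_one.1 h5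
    have h1 := Nat.card_le_card_of_injective _ hinj
    rw [Nat.card_prod, ← Nat.one_mul (s x), hcard, ← Subgroup.index_eq_card] at h1
    rw [← Subgroup.card_mul_index F, mul_comm ((2 ^ k) ^ 2)] at hdvd
    have h6 := Nat.le_of_dvd (pow_pos (pow_pos (by norm_num) k) 2)
      (Nat.dvd_of_mul_dvd_mul_left Nat.card_pos hdvd)
    have h7 : p * p ≤ (2 ^ k) ^ 2 := le_trans (Nat.mul_le_mul hge hge) (h1.trans h6)
    rw [pow_two] at h7
    have h8 : 2 ^ k < p := by omega
    exact absurd h7 (not_le.2 (Nat.mul_lt_mul'' h8 h8))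
  · -- `p = 3` and `x` permutes three components
    obtain rfl : k = 3 := Nat.pow_right_injective le_rfl (by norm_num at hk ⊢; omega)
    set z : A := x ^ 3 with hz
    have hzz : (z : MulAut U) = x₀ ^ 3 := rfl
    rw [pow_one] at hfix hdvd ⊢
    rw [← hzz] at hfix hdvd
    -- powers of `x`
    have hsz : Commute z a := by
      have h1 : ∀ n : ℕ, x ^ n * a * (x ^ n)⁻¹ = a * (c : A) ^ (n * s x) := by
        intro n
        induction n with
        | zero => simp
        | succ n ih =>
          have h4 : x * (c : A) ^ (n * s x) * x⁻¹ = (c : A) ^ (n * s x) := by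
            rw [(mem_center_iff.1 (pow_mem hcZ _) x), mul_inv_cancel_right]
          calc x ^ (n + 1) * a * (x ^ (n + 1))⁻¹ = x * (x ^ n * a * (x ^ n)⁻¹) * x⁻¹ := by
                rw [pow_succ']; group
            _ = (x * a * x⁻¹) * (x * (c : A) ^ (n * s x) * x⁻¹) := by rw [ih]; group
            _ = _ := by rw [hs x, h4, mul_assoc, ← pow_add, Nat.succ_mul, add_comm]
      have := h1 3
      rwa [(hcmod (3 * s x) 0).2 (by simp [show (3 : ZMod 3) = 0 from rfl]), pow_zero, mul_one,
        mul_inv_eq_iff_eq_mul] at this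
    have hzg : ∀ i, Commute z (g i) := fun i =>
      hsz.mul_right ((mem_center_iff.1 (pow_mem hcZ i) z))
    have hFz : ∀ u, app z u = u → u = 1 := by
      intro u hu
      rw [← hdec u]
      refine Finset.prod_eq_one fun i _ => ?_
      have h1 : app x (Nm (g i) u) = Nm (g i) u :=
        hfix _ ((hNc _ _ (hzg i).symm u).trans (congrArg _ hu))
      refine hdisj i (i + s x) (by simpa using hsx) _ (hNfix _ (hgp i) u) ?_
      exact h1 ▸ hmove x i _ (hNfix _ (hgp i) u)
    have hU64 : Nat.card U ∣ 64 := by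
      have : Nat.card (fixU (z : MulAut U)) = 1 := by
        rw [show fixU (z : MulAut U) = ⊥ from eq_bot_iff.2 fun u hu => mem_bot.2 (hFz u hu),
          Subgroup.card_bot]
      rwa [this, mul_one] at hdvd
    have h27 : Nat.card (Vc 0) * Nat.card (Vc (s x)) * Nat.card (Vc (2 * s x)) ≤ Nat.card U := by
      rw [← Nat.card_prod, ← Nat.card_prod]
      refine Nat.card_le_card_of_injective
        (fun w : (Vc 0 × Vc (s x)) × Vc (2 * s x) => (w.1.1 : U) * w.1.2 * w.2) ?_
      rintro ⟨⟨v, w⟩, r⟩ ⟨⟨v', w'⟩, r'⟩ h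
      have e : ∀ i, ∀ (v₁ : Vc 0) (v₂ : Vc (s x)) (v₃ : Vc (2 * s x)),
          Nm (g i) ((v₁ : U) * v₂ * v₃) = Nm (g i) v₁ * Nm (g i) v₂ * Nm (g i) v₃ := by
        intro i v₁ v₂ v₃
        rw [map_mul, map_mul]
      have h0 := congrArg (Nm (g 0)) h
      have h1' := congrArg (Nm (g (s x))) h
      have h2' := congrArg (Nm (g (2 * s x))) h
      simp only [e] at h0 h1' h2'
      rw [hNid _ _ v.2, hNid _ _ v'.2, hproj 0 _ hne1 _ w.2, hproj 0 _ hne1 _ w'.2,
        hproj 0 _ hne2 _ r.2, hproj 0 _ hne2 _ r'.2] at h0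
      rw [hNid _ _ w.2, hNid _ _ w'.2, hproj _ 0 hne1.symm _ v.2, hproj _ 0 hne1.symm _ v'.2,
        hproj _ _ hne3 _ r.2, hproj _ _ hne3 _ r'.2] at h1'
      rw [hNid _ _ r.2, hNid _ _ r'.2, hproj _ 0 hne2.symm _ v.2, hproj _ 0 hne2.symm _ v'.2,
        hproj _ _ hne3.symm _ w.2, hproj _ _ hne3.symm _ w'.2] at h2'
      simp only [mul_one, one_mul] at h0 h1' h2'
      exact Prod.ext (Prod.ext (Subtype.ext h0) (Subtype.ext h1')) (Subtype.ext h2')
    rw [← Nat.one_mul (s x), hcard, show 2 * (1 * s x) = 2 * s x by ring, hcard] at h27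
    have hv4 : Nat.card (Vc 0) = 4 := by
      obtain ⟨m, -, hm⟩ := (Nat.dvd_prime_pow Nat.prime_two).1
        ((Subgroup.card_subgroup_dvd_card (Vc 0)).trans hU64 : Nat.card (Vc 0) ∣ 2 ^ 6)
      have h64 := Nat.le_of_dvd (by norm_num) hU64
      rw [hm] at hge h27 ⊢
      match m with
      | 0 => norm_num at hge
      | 1 => norm_num at hge
      | 2 => rfl
      | n + 3 =>
        have h8 : 8 ≤ 2 ^ (n + 3) := by
          rw [pow_add]; exact Nat.le_mul_of_pos_left 8 (pow_pos two_pos n)
        have : 8 * 8 * 8 ≤ 2 ^ (n + 3) * 2 ^ (n + 3) * 2 ^ (n + 3) :=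
          Nat.mul_le_mul (Nat.mul_le_mul h8 h8) h8
        omega
    -- elements fixing the components
    have hcomm : ∀ t : A, Commute t a → Commute z t := by
      intro t ht
      let S : Subgroup A := Subgroup.centralizer {a}
      have hmem : ∀ h ∈ S, ∀ i, ∀ u ∈ Vc i, app h u ∈ Vc i := fun h hh i u hu => by
        have := hmove h i u hu
        rwa [hVmod _ i (by
          push_cast
          rw [(hscomm h).1 (Subgroup.mem_centralizer_singleton_iff.1 hh), add_zero])] at this
      have hon : ∀ i, Nat.card (Vc i) = 4 → ∀ u ∈ Vc i, app z (app t u) = app t (app z u) := by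
        intro i hi u hu
        let β : S →* MulAut (Vc i) := restrictAct ((A.subtype).comp S.subtype) (Vc i)
          fun h u hu => hmem h h.2 i u hu
        let γ : MulAut (Vc i) →* Equiv.Perm (Vc i) :=
          { toFun := MulEquiv.toEquiv, map_one' := rfl, map_mul' := fun _ _ => rfl }
        have hγ : Function.Injective γ := fun e e' h => MulEquiv.ext fun v => Equiv.ext_iff.1 h v
        have hR : IsPGroup 3 (γ.comp β).range :=
          ((hA.to_subgroup S).of_surjective _ (γ.comp β).rangeRestrict_surjective)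
        obtain ⟨m, hm⟩ := IsPGroup.iff_card.1 hR
        have hm1 : m ≤ 1 := by
          have h24 : Nat.card (γ.comp β).range ∣ 24 := by
            refine (Subgroup.card_subgroup_dvd_card _).trans ?_
            rw [Nat.card_perm, hi]
            exact dvd_refl _
          by_contra hm2
          have h9 : 3 ^ 2 ∣ 24 := ((pow_dvd_pow 3 (by omega : 2 ≤ m)).trans hm.symm.dvd).trans h24
          norm_num at h9
        haveI : IsCyclic (γ.comp β).range := by
          rcases Nat.le_one_iff_eq_zero_or_eq_one.1 hm1 with rfl | rfl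
          · haveI : Subsingleton (γ.comp β).range := (Nat.card_eq_one_iff_unique.1 (by simpa using hm)).1
            infer_instance
          · exact isCyclic_of_prime_card (p := 3) (by simpa using hm)
        letI := IsCyclic.commGroup (α := (γ.comp β).range)
        have hzS : z ∈ S := Subgroup.mem_centralizer_singleton_iff.2 hsz.eq
        have htS : t ∈ S := Subgroup.mem_centralizer_singleton_iff.2 ht.eq
        have h1 := congrArg Subtype.val
          (mul_comm ((γ.comp β).rangeRestrict ⟨z, hzS⟩) ((γ.comp β).rangeRestrict ⟨t, htS⟩))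
        exact congrArg Subtype.val (Equiv.ext_iff.1 h1 ⟨u, hu⟩)
      refine Subtype.ext (MulEquiv.ext fun u => ?_)
      show app (z * t) u = app (t * z) u
      rw [happ, happ, ← hdec u]
      show (z : MulAut U) ((t : MulAut U) _) = (t : MulAut U) ((z : MulAut U) _)
      rw [map_prod, map_prod, map_prod, map_prod]
      refine Finset.prod_congr rfl fun i hi => ?_
      refine hon i ?_ _ (hNfix _ (hgp i) u)
      rw [hVmod i (((i : ZMod 3) * (s x : ZMod 3)⁻¹).val * s x) (by
        push_cast [ZMod.natCast_zmod_val]; field_simp)]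
      rw [hcard, hv4]
    -- everything
    have hall : ∀ t : A, Commute z t := by
      intro t
      set n := (-(s t : ZMod 3) * (s x : ZMod 3)⁻¹).val with hn
      have h1 : Commute (x ^ n * t) a := by
        rw [commute_iff_eq, ← mul_inv_eq_iff_eq_mul]
        have hxn : ∀ m : ℕ, x ^ m * a * (x ^ m)⁻¹ = a * (c : A) ^ (m * s x) := by
          intro m
          induction m with
          | zero => simp
          | succ m ih =>
            have h4 : x * (c : A) ^ (m * s x) * x⁻¹ = (c : A) ^ (m * s x) := by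
              rw [(mem_center_iff.1 (pow_mem hcZ _) x), mul_inv_cancel_right]
            calc x ^ (m + 1) * a * (x ^ (m + 1))⁻¹ = x * (x ^ m * a * (x ^ m)⁻¹) * x⁻¹ := by
                  rw [pow_succ']; group
              _ = (x * a * x⁻¹) * (x * (c : A) ^ (m * s x) * x⁻¹) := by rw [ih]; group
              _ = _ := by rw [hs x, h4, mul_assoc, ← pow_add, Nat.succ_mul, add_comm]
        calc x ^ n * t * a * (x ^ n * t)⁻¹ = x ^ n * (t * a * t⁻¹) * (x ^ n)⁻¹ := by group
          _ = (x ^ n * a * (x ^ n)⁻¹) * (x ^ n * (c : A) ^ s t * (x ^ n)⁻¹) := by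
            rw [hs t]; group
          _ = a * ((c : A) ^ (n * s x) * (c : A) ^ s t) := by
            rw [hxn, (mem_center_iff.1 (pow_mem hcZ _) (x ^ n)), mul_inv_cancel_right, mul_assoc]
          _ = a := by
            rw [← pow_add, (hcmod _ 0).2 (by
              push_cast [hn, ZMod.natCast_zmod_val]; field_simp; ring), pow_zero, mul_one]
      have h2' := hcomm _ h1
      have h3 : Commute z (x ^ n)⁻¹ := ((Commute.refl x).pow_pow 3 n).inv_right
      simpa using h3.mul_right h2'
    have := congrArg Subtype.val (hall ⟨t₁, ht₁⟩).eq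
    exact this

/-- The moving powers of two exceptional generators of a `p`-group commute. -/
theorem pair_commute (hp2 : p ≠ 2) : ∀ (N : ℕ) (U : Type u) [CommGroup U] [Finite U],
    Nat.card U = N → (∀ u : U, u ^ 2 = 1) → ∀ (T : Type v) [Group T] [Finite T], IsPGroup p T →
    ∀ (α : T →* MulAut U) (x y z z' : T), closure {x, y} = ⊤ → Exc p α x z → Exc p α y z' →
    Commute (α z) (α z') := by
  intro N
  induction N using Nat.strong_induction_on with
  | _ N ih =>
  intro U _ _ hN h2 T _ _ hT α x y z z' hgen hx hy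
  classical
  haveI : Finite (MulAut U) :=
    Finite.of_injective (fun e : MulAut U => (e : U → U)) DFunLike.coe_injective
  by_cases hirr : ∀ W : Subgroup U, (∀ t ∈ α.range, ∀ u ∈ W, t u ∈ W) → W = ⊥ ∨ W = ⊤
  · by_cases hcyc : IsCyclic α.range
    · letI := IsCyclic.commGroup (α := α.range)
      exact congrArg Subtype.val (mul_comm (α.rangeRestrict z) (α.rangeRestrict z'))
    have hA : IsPGroup p α.range := hT.of_surjective _ α.rangeRestrict_surjective
    obtain ⟨a, ha, ⟨t, htA, hta⟩, hcase⟩ := irreducible_case hp2 h2 α.range hA hirr hcyc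
    obtain ⟨t, rfl⟩ := htA
    -- one of the generators moves the components
    have hor : α x * a ≠ a * α x ∨ α y * a ≠ a * α y := by
      by_contra! h
      refine hta ?_
      have hle : closure {x, y} ≤ (Subgroup.centralizer ({a} : Set (MulAut U))).comap α := by
        rw [closure_le]
        rintro g (rfl | rfl)
        · exact mem_centralizer_singleton_iff.2 h.1
        · exact mem_centralizer_singleton_iff.2 h.2
      rw [hgen] at hle
      exact mem_centralizer_singleton_iff.1 (hle (mem_top t))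
    rcases hor with hmx | hmy
    · rcases hx with h | ⟨j, k, hz, hfix, hk, hd⟩
      · rw [h]; exact Commute.one_left _
      · rw [hz, map_pow] at hfix hd ⊢
        exact hcase _ ⟨x, rfl⟩ hmx j k hfix hk hd _ ⟨z', rfl⟩
    · rcases hy with h | ⟨j, k, hz, hfix, hk, hd⟩
      · rw [h]; exact Commute.one_right _
      · rw [hz, map_pow] at hfix hd ⊢
        exact (show Commute (α y ^ p ^ j) (α z) from hcase _ ⟨y, rfl⟩ hmy j k hfix hk hd _ ⟨z, rfl⟩).symm
  · push Not at hirr
    obtain ⟨W, hW', hW0, hW1⟩ := hirr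
    have hW : ∀ t, ∀ u ∈ W, α t u ∈ W := fun t => hW' _ ⟨t, rfl⟩
    have hlt : Nat.card W < N := hN ▸ lt_of_le_of_ne (Subgroup.card_le_card_group W)
      fun e => hW1 (Subgroup.eq_top_of_card_eq W e)
    have hlt' : Nat.card (U ⧸ W) < N := by
      rw [← hN, Subgroup.card_eq_card_quotient_mul_card_subgroup W]
      exact lt_mul_of_one_lt_right Nat.card_pos ((Subgroup.one_lt_card_iff_ne_bot W).2 hW0)
    have h1 := ih _ hlt W rfl (fun u => Subtype.ext (h2 u)) T hT (restrictAct α W hW) x y z z' hgen
      (hx.restrict W hW) (hy.restrict W hW)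
    have h3 := ih _ hlt' (U ⧸ W) rfl (fun a => by
        induction a using QuotientGroup.induction_on with
        | H u => rw [← QuotientGroup.mk_pow, h2, QuotientGroup.mk_one]) T hT
      (quotAct α W hW) x y z z' hgen (hx.quot hp2 hT h2 W hW) (hy.quot hp2 hT h2 W hW)
    -- a commutator stabilising the chain
    set g := z * z' * z⁻¹ * z'⁻¹ with hg
    have hg1 : restrictAct α W hW g = 1 := by
      rw [hg, map_mul, map_mul, map_mul, map_inv, map_inv, h1.eq, mul_inv_cancel_right,
        mul_inv_cancel]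
    have hg2 : quotAct α W hW g = 1 := by
      rw [hg, map_mul, map_mul, map_mul, map_inv, map_inv, h3.eq, mul_inv_cancel_right,
        mul_inv_cancel]
    obtain ⟨i, hi⟩ := hT g
    have hgu : α g = 1 := by
      refine MulEquiv.ext fun u => ?_
      have hw : u⁻¹ * α g u ∈ W := by
        rw [← QuotientGroup.eq, ← quotAct_mk α W hW g, hg2]
        rfl
      set w := u⁻¹ * α g u with hwdef
      have hwfix : α g w = w :=
        congrArg Subtype.val (show restrictAct α W hW g ⟨w, hw⟩ = ⟨w, hw⟩ by rw [hg1]; rfl)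
      have hn : ∀ n : ℕ, ((α g) ^ n) u = u * w ^ n := by
        intro n
        induction n with
        | zero => simp
        | succ n ihn =>
          rw [pow_succ', MulAut.mul_apply, ihn, map_mul, map_pow, hwfix,
            show α g u = u * w by rw [hwdef, mul_inv_cancel_left], mul_assoc, ← pow_succ']
      have := hn (p ^ i)
      rw [← map_pow, hi, map_one, MulAut.one_apply, pow_odd (h2 w) (hp.out.odd_of_ne_two hp2).pow,
        eq_comm, mul_eq_left] at this
      show α g u = u
      rwa [hwdef, inv_mul_eq_one, eq_comm] at this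
    rw [hg, map_mul, map_mul, map_mul, map_inv, map_inv, mul_inv_eq_one, mul_inv_eq_iff_eq_mul] at hgu
    exact hgu

end CfsgLib.HHExponent
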