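import Mathlib

/-!
The commutant of a nilpotent operator is large; the fixed space of a monomial operator is small.
-/

set_option autoImplicit false
set_option linter.style.haveILetI false

namespace CfsgLib.HHExponent

open Finset

universe u v

variable {K : Type u} [Field K]

/-- The operators commuting with `N`. -/
def comm {V : Type v} [AddCommGroup V] [Module K V] (N : Module.End K V) :
    Submodule K (Module.End K V) where
  carrier := {f | f * N = N * f}
  add_mem' := fun {a b} ha hb => by
    simp only [Set.mem_ofPred_eq] at *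
    rw [add_mul, mul_add, ha, hb]
  zero_mem' := by simp
  smul_mem' := fun c a ha => by
    simp only [Set.mem_ofPred_eq] at *
    rw [smul_mul_assoc, mul_smul_comm, ha]

theorem mem_comm {V : Type v} [AddCommGroup V] [Module K V] {N f : Module.End K V} :
    f ∈ comm N ↔ f * N = N * f := Iff.rfl

/-- An operator with Jordan blocks of size at most `d` has a commutant of dimension at least
`m ^ 2 / d`. -/
theorem sq_finrank_le_comm : ∀ (m : ℕ) (V : Type v) [AddCommGroup V] [Module K V]
    [FiniteDimensional K V], Module.finrank K V = m → ∀ (N : Module.End K V) (d : ℕ), N ^ d = 0 →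
    m ^ 2 ≤ d * Module.finrank K (comm N) := by
  classical
  intro m
  induction m using Nat.strong_induction_on with
  | _ m ih =>
  intro V _ _ _ hm N d hd
  rcases Nat.eq_zero_or_pos m with rfl | hm0
  · simp
  haveI : Nontrivial V := Module.finrank_pos_iff.1 (hm ▸ hm0)
  have hex : ∃ s, N ^ s = 0 := ⟨d, hd⟩
  set s := Nat.find hex with hsdef
  have hs : N ^ s = 0 := Nat.find_spec hex
  have hsd : s ≤ d := Nat.find_min' hex hd
  have hs0 : 1 ≤ s := by
    by_contra h
    rw [show s = 0 by omega, pow_zero] at hs
    exact one_ne_zero hs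
  have hzero : ∀ k, s ≤ k → N ^ k = 0 := fun k hk => pow_eq_zero_of_le hk hs
  obtain ⟨w, hw⟩ : ∃ w, (N ^ (s - 1)) w ≠ 0 := by
    by_contra! h
    exact Nat.find_min hex (by omega : s - 1 < s) (LinearMap.ext h)
  -- a functional picking out the last vector of the chain
  let B : Submodule K V := Submodule.span K ((fun i => (N ^ i) w) '' (Set.Iio (s - 1)))
  have hu : (N ^ (s - 1)) w ∉ B := by
    intro h
    have key : ∀ t, t ≤ s - 1 → (N ^ (s - 1)) w ∈
        Submodule.span K ((fun i => (N ^ i) w) '' (Set.Ico t (s - 1))) := by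
      intro t
      induction t with
      | zero =>
        intro _
        refine Submodule.span_mono ?_ h
        exact Set.image_mono fun i hi => ⟨Nat.zero_le _, hi⟩
      | succ t iht =>
        intro ht
        have hmem := iht (by omega)
        have hsplit : Set.Ico t (s - 1) = insert t (Set.Ico (t + 1) (s - 1)) := by
          ext i; simp only [Set.mem_Ico, Set.mem_insert_iff]; omega
        rw [hsplit, Set.image_insert_eq, Submodule.mem_span_insert] at hmem
        obtain ⟨c, r, hr, hcr⟩ := hmem
        have hkill : (N ^ (s - 1 - t)) r = 0 := by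
          clear hcr
          induction hr using Submodule.span_induction with
          | mem v hv =>
            obtain ⟨i, hi, rfl⟩ := hv
            have := hi.1
            rw [← Module.End.mul_apply, ← pow_add, hzero _ (by omega), LinearMap.zero_apply]
          | zero => simp
          | add a b _ _ ha hb => rw [map_add, ha, hb, add_zero]
          | smul c a _ ha => rw [map_smul, ha, smul_zero]
        have h1 := congrArg (N ^ (s - 1 - t)) hcr
        rw [map_add, map_smul, hkill, add_zero, ← Module.End.mul_apply, ← pow_add,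
          hzero _ (by omega), LinearMap.zero_apply, ← Module.End.mul_apply, ← pow_add,
          Nat.sub_add_cancel (by omega : t ≤ s - 1), eq_comm, smul_eq_zero] at h1
        rw [hcr, h1.resolve_right hw, zero_smul, zero_add]
        exact hr
    have := key (s - 1) le_rfl
    rw [Set.Ico_self, Set.image_empty, Submodule.span_empty, Submodule.mem_bot] at this
    exact hw this
  obtain ⟨μ, hμ1, hμ2⟩ := Submodule.exists_dual_map_eq_bot_of_notMem hu inferInstance
  let ν : Module.Dual K V := (μ ((N ^ (s - 1)) w))⁻¹ • μ
  have hν : ν ((N ^ (s - 1)) w) = 1 := by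
    simp only [ν, LinearMap.smul_apply, smul_eq_mul]; exact inv_mul_cancel₀ hμ1
  have hν' : ∀ i, i ≠ s - 1 → ν ((N ^ i) w) = 0 := by
    intro i hi
    rcases lt_or_gt_of_ne hi with h | h
    · have h1 : μ ((N ^ i) w) ∈ Submodule.map μ B :=
        ⟨_, Submodule.subset_span ⟨i, h, rfl⟩, rfl⟩
      rw [hμ2, Submodule.mem_bot] at h1
      simp [ν, h1]
    · rw [hzero i (by omega), LinearMap.zero_apply, map_zero]
  -- commuting operators
  let E : Module.Dual K V → V → Module.End K V := fun φ v =>
    ∑ j ∈ range s, (φ ∘ₗ (N ^ (s - 1 - j))).smulRight ((N ^ j) v)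
  have hE : ∀ φ v x, E φ v x = ∑ j ∈ range s, φ ((N ^ (s - 1 - j)) x) • (N ^ j) v := fun φ v x => by
    simp [E]
  have hEc : ∀ φ v, E φ v ∈ comm N := by
    intro φ v
    refine LinearMap.ext fun x => ?_
    rw [Module.End.mul_apply, Module.End.mul_apply, hE, hE, map_sum]
    obtain ⟨r, hr⟩ := Nat.exists_eq_add_of_le hs0
    rw [hr, add_comm 1 r]
    simp only [map_smul]
    conv_lhs =>
      rw [sum_range_succ']
    conv_rhs =>
      rw [sum_range_succ]
    have hlast : N ((N ^ r) v) = 0 := by
      rw [← Module.End.mul_apply, ← pow_succ', hzero _ (by omega), LinearMap.zero_apply]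
    have hfirst : (N ^ (r + 1 - 1 - 0)) (N x) = 0 := by
      rw [← Module.End.mul_apply, ← pow_succ, hzero _ (by omega), LinearMap.zero_apply]
    rw [hlast, smul_zero, add_zero, hfirst, map_zero, zero_smul, add_zero]
    refine sum_congr rfl fun j hj => ?_
    rw [mem_range] at hj
    rw [← Module.End.mul_apply, ← Module.End.mul_apply N, ← pow_succ, ← pow_succ',
      show r + 1 - 1 - (j + 1) + 1 = r + 1 - 1 - j by omega]
  have hEw : ∀ v, E ν v w = v := by
    intro v
    rw [hE, sum_eq_single_of_mem 0 (mem_range.2 hs0) fun j hj hj0 => by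
      rw [hν' _ (by rw [mem_range] at hj; omega), zero_smul]]
    rw [Nat.sub_zero, hν, one_smul, pow_zero, Module.End.one_apply]
  have hcomm_pow : ∀ f ∈ comm N, ∀ i x, f ((N ^ i) x) = (N ^ i) (f x) := fun f hf i x => by
    rw [← Module.End.mul_apply, ← Module.End.mul_apply]
    exact LinearMap.congr_fun ((show Commute f N from hf).pow_right i).eq x
  set e := E ν w with hedef
  have hee : ∀ x, e (e x) = e x := by
    intro x
    conv_lhs => rw [hedef, hE ν w x, map_sum]
    rw [hE ν w x]
    refine sum_congr rfl fun j _ => ?_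
    rw [map_smul, hcomm_pow _ (hEc ν w), hEw]
  let M' : Submodule K V := LinearMap.ker e
  have hNM : ∀ x ∈ M', N x ∈ M' := fun x hx => by
    rw [LinearMap.mem_ker] at hx ⊢
    have := hcomm_pow _ (hEc ν w) 1 x
    rw [pow_one] at this
    rw [this, hx, map_zero]
  let π : V →ₗ[K] M' := (1 - e).codRestrict M' fun x => by
    rw [LinearMap.mem_ker, LinearMap.sub_apply, Module.End.one_apply, map_sub, hee, sub_self]
  have hπ : ∀ x, ((π x : M') : V) = x - e x := fun x => rfl
  have hπM : ∀ x : M', π x = x := fun x => Subtype.ext (by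
    rw [hπ, LinearMap.mem_ker.1 x.2, sub_zero])
  let N' : Module.End K M' := N.restrict hNM
  have hN' : ∀ x : M', ((N' x : M') : V) = N x := fun x => rfl
  have hπw : π w = 0 := Subtype.ext (by rw [hπ, hEw, sub_self]; rfl)
  have hπN : ∀ x, π (N x) = N' (π x) := fun x => Subtype.ext (by
    rw [hπ, hN', hπ, map_sub]
    have := hcomm_pow _ (hEc ν w) 1 x
    rw [pow_one] at this
    rw [this])
  have hN's : N' ^ s = 0 := by
    have h : ∀ i (x : M'), (((N' ^ i) x : M') : V) = (N ^ i) x := by
      intro i
      induction i with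
      | zero => intro x; rfl
      | succ i ihi =>
        intro x
        rw [pow_succ', pow_succ', Module.End.mul_apply, Module.End.mul_apply, hN', ihi]
    refine LinearMap.ext fun x => Subtype.ext ?_
    rw [h, hs]; rfl
  have hlt : Module.finrank K M' < m := by
    rw [← hm]
    refine Submodule.finrank_lt fun htop => hw ?_
    have hw0 : e w = 0 := LinearMap.mem_ker.1 (htop.ge (Submodule.mem_top (x := w)))
    rw [hEw] at hw0
    rw [hw0, map_zero]
  have hM'c := ih _ hlt M' rfl N' s hN's
  have hπpow : ∀ i, π ((N ^ i) w) = 0 := by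
    intro i
    induction i with
    | zero => exact hπw
    | succ i ihi => rw [pow_succ', Module.End.mul_apply, hπN, ihi, map_zero]
  let Φ : V × Module.Dual K M' × comm N' →ₗ[K] comm N :=
    { toFun := fun t => ⟨E ν t.1 + E (t.2.1 ∘ₗ π) w + M'.subtype ∘ₗ (t.2.2 : Module.End K M') ∘ₗ π,
        add_mem (add_mem (hEc _ _) (hEc _ _)) (LinearMap.ext fun x => by
          show ((t.2.2 : Module.End K M') (π (N x)) : V) =
            N ((t.2.2 : Module.End K M') (π x) : V)
          rw [hπN, ← Module.End.mul_apply, mem_comm.1 t.2.2.2]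
          rfl)⟩
      map_add' := fun a b => Subtype.ext (LinearMap.ext fun x => by
        simp only [LinearMap.add_apply, Submodule.coe_add, hE, LinearMap.comp_apply, Prod.fst_add,
          Prod.snd_add, map_add, smul_add, add_smul, sum_add_distrib, Submodule.subtype_apply]
        abel)
      map_smul' := fun c a => Subtype.ext (LinearMap.ext fun x => by
        simp only [LinearMap.add_apply, SetLike.val_smul, LinearMap.smul_apply, hE,
          LinearMap.comp_apply, Prod.smul_fst, Prod.smul_snd, map_smul, smul_add, smul_sum,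
          smul_smul, mul_comm c, smul_eq_mul, Submodule.subtype_apply, RingHom.id_apply]) }
  have hΦ : Function.Injective Φ := by
    letI : AddCommGroup (comm N') := Submodule.addCommGroup (comm N')
    letI : AddCommGroup (Module.Dual K M') := LinearMap.addCommGroup
    letI : AddCommGroup (V × Module.Dual K M' × comm N') := Prod.instAddCommGroup
    intro a b hab
    obtain ⟨v, φ, g⟩ := a
    obtain ⟨v', φ', g'⟩ := b
    have hab' : Φ (v - v', φ - φ', g - g') = 0 := by
      rw [show (v - v', φ - φ', g - g') = ((v, φ, g) : V × Module.Dual K M' × comm N') - (v', φ', g') from rfl,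
        map_sub, hab, sub_self]
    suffices hker : ∀ v φ g, Φ (v, φ, g) = 0 → v = 0 ∧ φ = 0 ∧ g = 0 by
      obtain ⟨e1, e2, e3⟩ := hker _ _ _ hab'
      rw [sub_eq_zero.1 e1, sub_eq_zero.1 e2, sub_eq_zero.1 e3]
    clear hab hab'
    intro v φ g ht
    have h : ∀ x, E ν v x + E (φ ∘ₗ π) w x + ((g : Module.End K M') (π x) : V) = 0 := fun x =>
      LinearMap.congr_fun (congrArg Subtype.val ht) x
    have hv : v = 0 := by
      have h1 := h w
      rw [hEw, hπw, map_zero, ZeroMemClass.coe_zero, add_zero,
        show E (φ ∘ₗ π) w w = 0 by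
          rw [hE]
          exact sum_eq_zero fun j _ => by rw [LinearMap.comp_apply, hπpow, map_zero, zero_smul],
        add_zero] at h1
      exact h1
    subst hv
    have hz : ∀ x, E ν 0 x = 0 := fun x => by rw [hE]; simp
    have hφ : φ = 0 := LinearMap.ext fun x => by
      have h1 := congrArg ν (h x)
      rw [hz, zero_add, map_add, map_zero, hπM, hE, map_sum] at h1
      have h2 : ν (((g : Module.End K M') x : M') : V) = 0 := by
        set y := (g : Module.End K M') x
        have hy : e (y : V) = 0 := LinearMap.mem_ker.1 y.2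
        have h3 := congrArg ν hy
        rw [hE, map_sum, map_zero, sum_eq_single_of_mem (s - 1) (mem_range.2 (by omega))
          fun j _ hj => by rw [map_smul, hν' _ hj, smul_zero]] at h3
        rwa [map_smul, hν, smul_eq_mul, mul_one, Nat.sub_self, pow_zero,
          Module.End.one_apply] at h3
      rw [h2, add_zero, sum_eq_single_of_mem (s - 1) (mem_range.2 (by omega))
        fun j _ hj => by rw [map_smul, hν' _ hj, smul_zero]] at h1
      rwa [map_smul, hν, smul_eq_mul, mul_one, Nat.sub_self, pow_zero, Module.End.one_apply,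
        LinearMap.comp_apply, hπM] at h1
    subst hφ
    have hg : g = 0 := Subtype.ext (LinearMap.ext fun x => Subtype.ext (by
      have h1 := h x
      rw [hz, zero_add, hπM, show E ((0 : Module.Dual K M') ∘ₗ π) w x = 0 by rw [hE]; simp,
        zero_add] at h1
      exact h1))
    exact ⟨rfl, rfl, hg⟩
  have hle := LinearMap.finrank_le_finrank_of_injective hΦ
  haveI : Module.Free K (comm N') := Module.Free.of_divisionRing (K := K) (V := ↥(comm N'))
  haveI : Module.Free K (Module.Dual K M') := Module.Free.of_divisionRing (K := K) (V := Module.Dual K M')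
  haveI : Module.Free K (Module.Dual K M' × comm N') := Module.Free.prod K _ _
  rw [Module.finrank_prod, Module.finrank_prod, Subspace.dual_finrank_eq, hm] at hle
  set c' := Module.finrank K (comm N')
  set m' := Module.finrank K M'
  have hms : m ≤ s + m' := by
    have h1 : Module.finrank K (LinearMap.range e) ≤ s := by
      have h2 : LinearMap.range e ≤ Submodule.span K (Set.range fun j : Fin s => (N ^ (j : ℕ)) w) := by
        rintro _ ⟨x, rfl⟩
        rw [hedef, hE]
        exact Submodule.sum_mem _ fun j hj => Submodule.smul_mem _ _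
          (Submodule.subset_span ⟨⟨j, mem_range.1 hj⟩, rfl⟩)
      exact (Submodule.finrank_mono h2).trans
        ((finrank_range_le_card _).trans (Fintype.card_fin s).le)
    have h3 : Module.finrank K (LinearMap.range e) + m' = m := hm ▸ e.finrank_range_add_finrank_ker
    omega
  calc m ^ 2 = m * m := sq m
    _ ≤ s * (m + (m' + c')) := by nlinarith
    _ ≤ d * Module.finrank K (comm N) := Nat.mul_le_mul hsd hle

/-- The fixed space of an operator permuting the lines of a basis. -/
theorem finrank_fixed_le {V : Type v} [AddCommGroup V] [Module K V] {ι : Type*} [Fintype ι]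
    (b : Module.Basis ι K V) (σ : Equiv.Perm ι) (c : ι → K) (Θ : Module.End K V)
    (hΘ : ∀ i, Θ (b i) = c i • b (σ i)) (R : Finset ι)
    (hR : ∀ i, ∃ r ∈ R, σ.SameCycle r i) (W : Submodule K V) (hW : ∀ f ∈ W, Θ f = f) :
    Module.finrank K W ≤ R.card := by
  classical
  haveI : FiniteDimensional K V := Module.Finite.of_basis b
  let L : W →ₗ[K] (R → K) :=
    { toFun := fun f r => b.repr (f : V) r
      map_add' := fun f g => funext fun r => by simp
      map_smul' := fun t f => funext fun r => by simp }
  have hL : Function.Injective L := by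
    rw [← LinearMap.ker_eq_bot, eq_bot_iff]
    intro f hf
    have h1 : ∀ i, b.repr (f : V) (σ i) = c i * b.repr (f : V) i := by
      intro i
      have h2 : b.repr (Θ (f : V)) (σ i) = b.repr (f : V) (σ i) := by rw [hW f f.2]
      rw [← h2]
      conv_lhs => rw [← b.sum_repr (f : V), map_sum, map_sum]
      simp [hΘ, map_smul, Finsupp.single_apply, mul_comm]
    have h3 : ∀ r, b.repr (f : V) r = 0 → ∀ l : ℕ, b.repr (f : V) ((σ ^ l) r) = 0 := by
      intro r hr l
      induction l with
      | zero => simpa using hr
      | succ l ihl => rw [pow_succ', Equiv.Perm.mul_apply, h1, ihl, mul_zero]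
    rw [Submodule.mem_bot]
    refine Subtype.ext (b.repr.injective (Finsupp.ext fun i => ?_))
    obtain ⟨r, hr, hri⟩ := hR i
    obtain ⟨l, hl, rfl⟩ := hri.exists_pow_eq'
    rw [h3 r (congrFun (LinearMap.mem_ker.1 hf) ⟨r, hr⟩) l]
    simp
  have := LinearMap.finrank_le_finrank_of_injective hL
  simpa using this

/-- Orbit representatives of a permutation, counted. -/
theorem exists_reps {ι : Type*} [Fintype ι] (σ : Equiv.Perm ι) (p n : ℕ) [Fact p.Prime] (hn : 1 ≤ n)
    (hσ : σ ^ p ^ n = 1) :
    ∃ R : Finset ι, (∀ i, ∃ r ∈ R, σ.SameCycle r i) ∧ ∃ a b : ℕ, R.card = a + b ∧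
      Fintype.card ι = a * p ^ n + Nat.card {i // (σ ^ p ^ (n - 1)) i = i} ∧
      b ≤ Nat.card {i // (σ ^ p ^ (n - 1)) i = i} ∧
      (b = Nat.card {i // (σ ^ p ^ (n - 1)) i = i} →
        ∀ i, (σ ^ p ^ (n - 1)) i = i → σ i = i) := by
  classical
  have hp : p.Prime := Fact.out
  let out : ι → ι := fun i => (Quotient.mk (Equiv.Perm.SameCycle.setoid σ) i).out
  have hout : ∀ i, σ.SameCycle (out i) i := fun i =>
    Quotient.mk_out (s := Equiv.Perm.SameCycle.setoid σ) i
  have hcls : ∀ {i j}, σ.SameCycle i j → out i = out j := fun {i j} h => by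
    simp only [out]
    rw [Quotient.sound (s := Equiv.Perm.SameCycle.setoid σ) h]
  set R := Finset.univ.image out with hR
  have hRout : ∀ r ∈ R, out r = r := by
    intro r hr
    obtain ⟨i, -, rfl⟩ := Finset.mem_image.1 hr
    exact hcls (hout i)
  set y := σ ^ p ^ (n - 1) with hy
  have hyc : ∀ (l : ℕ) (i : ι), y ((σ ^ l) i) = (σ ^ l) (y i) := fun l i => by
    rw [← Equiv.Perm.mul_apply, ← Equiv.Perm.mul_apply, hy,
      ((Commute.refl σ).pow_pow (p ^ (n - 1)) l).eq]
  have hinv : ∀ {i j}, σ.SameCycle i j → (y i = i ↔ y j = j) := by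
    intro i j h
    obtain ⟨l, -, rfl⟩ := h.exists_pow_eq'
    rw [hyc, (σ ^ l).injective.eq_iff]
  refine ⟨R, fun i => ⟨out i, Finset.mem_image_of_mem _ (Finset.mem_univ i), hout i⟩,
    (R.filter fun r => y r ≠ r).card, (R.filter fun r => y r = r).card, ?_, ?_, ?_, ?_⟩
  · rw [add_comm, Finset.card_filter_add_card_filter_not]
  · let f : {r // r ∈ R.filter fun r => y r ≠ r} × Fin (p ^ n) → {i // ¬ y i = i} := fun t =>
      ⟨(σ ^ (t.2 : ℕ)) t.1, fun h => (Finset.mem_filter.1 t.1.2).2
        ((hinv ⟨(t.2 : ℕ), by rw [zpow_natCast]⟩).2 h)⟩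
    have hf : Function.Bijective f := by
      refine ⟨?_, ?_⟩
      · rintro ⟨⟨r, hr⟩, l⟩ ⟨⟨r', hr'⟩, l'⟩ h
        have h' : (σ ^ (l : ℕ)) r = (σ ^ (l' : ℕ)) r' := congrArg Subtype.val h
        obtain ⟨hrR, hry⟩ := Finset.mem_filter.1 hr
        obtain ⟨hrR', -⟩ := Finset.mem_filter.1 hr'
        have e : r = r' := by
          rw [← hRout r hrR, ← hRout r' hrR']
          refine (hcls (?_ : σ.SameCycle r ((σ ^ (l : ℕ)) r))).trans (hcls ?_).symm
          · exact ⟨(l : ℕ), by rw [zpow_natCast]⟩
          · exact ⟨(l' : ℕ), by rw [zpow_natCast, h']⟩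
        subst e
        have hper : ∀ a b : Fin (p ^ n), (a : ℕ) < b → (σ ^ (a : ℕ)) r ≠ (σ ^ (b : ℕ)) r := by
          intro a b hab he
          have hd : (σ ^ ((b : ℕ) - a)) r = r := by
            apply (σ ^ (a : ℕ)).injective
            rw [← Equiv.Perm.mul_apply, ← pow_add, Nat.add_sub_cancel' hab.le, he]
          have h1 : Function.IsPeriodicPt σ ((b : ℕ) - a) r := by
            show (σ : ι → ι)^[(b : ℕ) - a] r = r
            rw [Equiv.Perm.iterate_eq_pow]; exact hd
          have h2 : Function.IsPeriodicPt σ (p ^ n) r := by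
            show (σ : ι → ι)^[p ^ n] r = r
            rw [Equiv.Perm.iterate_eq_pow, hσ]; rfl
          obtain ⟨t, ht, hte⟩ := (Nat.dvd_prime_pow hp).1 h2.minimalPeriod_dvd
          rcases eq_or_lt_of_le ht with rfl | htn
          · have := Nat.le_of_dvd (by omega) (hte ▸ h1.minimalPeriod_dvd)
            have := b.2
            omega
          · refine hry ?_
            have h3 : Function.minimalPeriod σ r ∣ p ^ (n - 1) :=
              hte ▸ pow_dvd_pow p (by omega : t ≤ n - 1)
            have h4 := (Function.isPeriodicPt_minimalPeriod σ r).trans_dvd h3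
            have h5 : (σ : ι → ι)^[p ^ (n - 1)] r = r := h4
            rwa [Equiv.Perm.iterate_eq_pow] at h5
        rcases lt_trichotomy (l : ℕ) (l' : ℕ) with hh | hh | hh
        · exact absurd h' (hper l l' hh)
        · exact Prod.ext rfl (Fin.ext hh)
        · exact absurd h'.symm (hper l' l hh)
      · rintro ⟨i, hi⟩
        obtain ⟨l, -, hl⟩ := (hout i).exists_pow_eq'
        refine ⟨(⟨out i, Finset.mem_filter.2 ⟨Finset.mem_image_of_mem _ (Finset.mem_univ i),
          fun h => hi ((hinv (hout i)).1 h)⟩⟩, ⟨l % p ^ n, Nat.mod_lt _ (pow_pos hp.pos n)⟩), ?_⟩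
        apply Subtype.ext
        show (σ ^ (l % p ^ n)) (out i) = i
        conv_rhs => rw [← hl, ← Nat.mod_add_div l (p ^ n), pow_add, pow_mul, hσ, one_pow, mul_one]
    have h1 := Nat.card_congr (Equiv.ofBijective f hf)
    have h2 := Nat.card_congr (Equiv.sumCompl fun i => y i = i)
    rw [Nat.card_sum, Nat.card_eq_fintype_card (α := ι), ← h1, Nat.card_prod, Nat.card_fin,
      Nat.card_eq_finsetCard] at h2
    omega
  · rw [← Nat.card_eq_finsetCard]
    exact Nat.card_le_card_of_injective (fun r => ⟨r.1, (Finset.mem_filter.1 r.2).2⟩)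
      fun a b h => Subtype.ext (congrArg Subtype.val h :)
  · intro hb i hi
    have hall : ∀ j, y j = j → j ∈ R := by
      intro j hj
      by_contra hjR
      have hsub : (R.filter fun r => y r = r) ⊂ Finset.univ.filter fun r => y r = r := by
        refine Finset.ssubset_iff_of_subset (fun r hr => ?_) |>.2 ⟨j, ?_, ?_⟩
        · exact Finset.mem_filter.2 ⟨Finset.mem_univ _, (Finset.mem_filter.1 hr).2⟩
        · exact Finset.mem_filter.2 ⟨Finset.mem_univ _, hj⟩
        · exact fun h => hjR (Finset.mem_filter.1 h).1
      have := Finset.card_lt_card hsub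
      rw [hb, Nat.card_eq_fintype_card, Fintype.card_subtype] at this
      exact lt_irrefl _ this
    have hσi : σ.SameCycle i (σ i) := ⟨1, by rw [zpow_one]⟩
    exact ((hRout _ (hall i hi)).symm.trans ((hcls hσi).trans
      (hRout _ (hall _ ((hinv hσi).1 hi))))).symm

end CfsgLib.HHExponent
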