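import Cfsg.Agent.HallHigman.TheoremB
import Cfsg.Agent.HallHigman.Exponent.Linear
import Cfsg.Agent.HallHigman.Exponent.Pair

/-!
The commutator space of an element with small minimal polynomial on a twisted group algebra of an
elementary abelian `2`-group.
-/

set_option autoImplicit false
set_option linter.style.haveILetI false
set_option linter.unusedSectionVars false
set_option linter.unusedVariables false

namespace CfsgLib.HHExponent

open Subgroup Finset
open CfsgLib.HallHigman (weight mem_weight rep_mul rep_inv_self rep_self_inv subRep subRep_apply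
  subRep_sub_one_pow)

universe u v w

variable {K : Type w} [Field K] {G : Type u} [Group G] {V : Type v} [AddCommGroup V] [Module K V]

/-- The elements of `Q` which act as elements commuting with all of `Q`. -/
def rad (ρ : Representation K G V) (Q : Subgroup G) : Subgroup G where
  carrier := {g | g ∈ Q ∧ ∀ h ∈ Q, ρ g * ρ h = ρ h * ρ g}
  one_mem' := ⟨one_mem Q, fun h _ => by simp⟩
  mul_mem' := fun {a b} ha hb => ⟨mul_mem ha.1 hb.1, fun h hh => by
    rw [map_mul, mul_assoc, hb.2 h hh, ← mul_assoc, ha.2 h hh, mul_assoc]⟩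
  inv_mem' := fun {a} ha => ⟨inv_mem ha.1, fun h hh => by
    calc ρ a⁻¹ * ρ h = ρ a⁻¹ * (ρ h * ρ a) * ρ a⁻¹ := by
          simp only [mul_assoc, ← map_mul, mul_inv_cancel, mul_one]
      _ = ρ a⁻¹ * (ρ a * ρ h) * ρ a⁻¹ := by rw [ha.2 h hh]
      _ = ρ h * ρ a⁻¹ := by simp only [← mul_assoc, ← map_mul, inv_mul_cancel, one_mul]⟩

theorem rad_le (ρ : Representation K G V) (Q : Subgroup G) : rad ρ Q ≤ Q := fun _ h => h.1

instance rad_normal (ρ : Representation K G V) (Q : Subgroup G) :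
    ((rad ρ Q).subgroupOf Q).Normal := by
  refine ⟨fun r hr g => ?_⟩
  rw [mem_subgroupOf] at hr ⊢
  refine ⟨(g * r * g⁻¹).2, fun h hh => ?_⟩
  have e : ρ ((g * r * g⁻¹ : Q) : G) = ρ (r : G) := by
    simp only [Subgroup.coe_mul, Subgroup.coe_inv, map_mul]
    rw [← hr.2 g g.2, mul_assoc, ← map_mul, mul_inv_cancel, map_one, mul_one]
  rw [e]
  exact hr.2 h hh

theorem conj_mem_rad (ρ : Representation K G V) {Q : Subgroup G} {a : G}
    (ha : a ∈ normalizer (Q : Set G)) {r : G} (hr : r ∈ rad ρ Q) : a * r * a⁻¹ ∈ rad ρ Q := by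
  refine ⟨(mem_normalizer_iff.1 ha r).1 hr.1, fun h hh => ?_⟩
  have h1 : a⁻¹ * h * a ∈ Q := (mem_normalizer_iff''.1 ha h).1 hh
  have h2 := hr.2 _ h1
  rw [← map_mul, ← map_mul] at h2
  calc ρ (a * r * a⁻¹) * ρ h = ρ a * ρ (r * (a⁻¹ * h * a)) * ρ a⁻¹ := by
        simp only [← map_mul]; congr 1; group
    _ = ρ a * ρ (a⁻¹ * h * a * r) * ρ a⁻¹ := by rw [h2]
    _ = ρ h * ρ (a * r * a⁻¹) := by simp only [← map_mul]; congr 1; group

/-- Conjugation on `Q`. -/
def conjQ (Q : Subgroup G) : normalizer (Q : Set G) →* MulAut Q where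
  toFun a :=
    { toFun := fun g => ⟨a * g * (a : G)⁻¹, (mem_normalizer_iff.1 a.2 g).1 g.2⟩
      invFun := fun g => ⟨(a : G)⁻¹ * g * a, (mem_normalizer_iff''.1 a.2 g).1 g.2⟩
      left_inv := fun g => Subtype.ext (by simp [mul_assoc])
      right_inv := fun g => Subtype.ext (by simp [mul_assoc])
      map_mul' := fun g h => Subtype.ext (by simp [mul_assoc]) }
  map_one' := by ext g; simp
  map_mul' a b := by ext g; simp [mul_assoc]

theorem conjQ_mem_rad (ρ : Representation K G V) (Q : Subgroup G) (a : normalizer (Q : Set G)) :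
    (rad ρ Q).subgroupOf Q ≤ ((rad ρ Q).subgroupOf Q).comap (conjQ Q a).toMonoidHom :=
  fun _ hg => Subgroup.mem_comap.2 (mem_subgroupOf.2 (conj_mem_rad ρ a.2 (mem_subgroupOf.1 hg)))

/-- Conjugation on `Q` modulo the radical. -/
def uAct (ρ : Representation K G V) (Q : Subgroup G) :
    normalizer (Q : Set G) →* MulAut (Q ⧸ (rad ρ Q).subgroupOf Q) where
  toFun a :=
    { toFun := QuotientGroup.map _ _ (conjQ Q a).toMonoidHom (conjQ_mem_rad ρ Q a)
      invFun := QuotientGroup.map _ _ (conjQ Q a⁻¹).toMonoidHom (conjQ_mem_rad ρ Q a⁻¹)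
      left_inv := fun u => by
        induction u using QuotientGroup.induction_on with
        | H g => simp [map_inv]
      right_inv := fun u => by
        induction u using QuotientGroup.induction_on with
        | H g => simp [map_inv]
      map_mul' := map_mul _ }
  map_one' := by
    ext u
    induction u using QuotientGroup.induction_on with
    | H g => simp
  map_mul' a b := by
    ext u
    induction u using QuotientGroup.induction_on with
    | H g => simp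

theorem uAct_mk (ρ : Representation K G V) (Q : Subgroup G) (a : normalizer (Q : Set G)) (g : Q) :
    uAct ρ Q a (g : Q ⧸ (rad ρ Q).subgroupOf Q) =
      ((⟨a * g * (a : G)⁻¹, (mem_normalizer_iff.1 a.2 g).1 g.2⟩ : Q) :
        Q ⧸ (rad ρ Q).subgroupOf Q) := rfl

theorem uAct_fix_iff (ρ : Representation K G V) (Q : Subgroup G) (a : normalizer (Q : Set G)) (g : Q) :
    uAct ρ Q a (g : Q ⧸ (rad ρ Q).subgroupOf Q) = g ↔
      (a : G) * g * (a : G)⁻¹ * (g : G)⁻¹ ∈ rad ρ Q := by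
  rw [uAct_mk, eq_comm, QuotientGroup.eq, (inferInstance : ((rad ρ Q).subgroupOf Q).Normal).mem_comm_iff,
    mem_subgroupOf]
  rfl

/-- Scalar commutators and squares in the radical. -/
structure Twisted (ρ : Representation K G V) (Q : Subgroup G) : Prop where
  scal : ∀ g ∈ Q, ∀ h ∈ Q, ∃ c : K, ρ g * ρ h = c • (ρ h * ρ g)
  sq : ∀ g ∈ Q, g * g ∈ rad ρ Q

namespace Twisted

variable {ρ : Representation K G V} {Q : Subgroup G}

theorem comm_scalar (hT : Twisted ρ Q) {g h : G} (hg : g ∈ Q) (hh : h ∈ Q) :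
    ∃ c : K, ρ (g * h * g⁻¹ * h⁻¹) = c • 1 := by
  obtain ⟨c, hc⟩ := hT.scal g hg h hh
  refine ⟨c, ?_⟩
  rw [mul_assoc, map_mul, map_mul ρ g h, hc, smul_mul_assoc, ← map_mul, ← map_mul,
    show h * g * (g⁻¹ * h⁻¹) = 1 by group, map_one]

theorem comm_mem_rad (hT : Twisted ρ Q) {g h : G} (hg : g ∈ Q) (hh : h ∈ Q) :
    g * h * g⁻¹ * h⁻¹ ∈ rad ρ Q := by
  obtain ⟨c, hc⟩ := hT.comm_scalar hg hh
  refine ⟨mul_mem (mul_mem (mul_mem hg hh) (inv_mem hg)) (inv_mem hh), fun k _ => ?_⟩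
  rw [hc, smul_mul_assoc, mul_smul_comm, one_mul, mul_one]

theorem u_comm (hT : Twisted ρ Q) (a b : Q ⧸ (rad ρ Q).subgroupOf Q) : a * b = b * a := by
  induction a using QuotientGroup.induction_on with
  | H g =>
    induction b using QuotientGroup.induction_on with
    | H h =>
      rw [← mul_inv_eq_one, ← QuotientGroup.mk_mul, ← QuotientGroup.mk_mul, ← QuotientGroup.mk_inv,
        ← QuotientGroup.mk_mul, QuotientGroup.eq_one_iff, mem_subgroupOf]
      simpa [mul_assoc] using hT.comm_mem_rad g.2 h.2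

theorem u_sq (hT : Twisted ρ Q) (a : Q ⧸ (rad ρ Q).subgroupOf Q) : a ^ 2 = 1 := by
  induction a using QuotientGroup.induction_on with
  | H g =>
    rw [pow_two, ← QuotientGroup.mk_mul, QuotientGroup.eq_one_iff, mem_subgroupOf]
    exact hT.sq g g.2

theorem sub {W : Submodule K V} {H : Subgroup G} (hT : Twisted ρ Q) (hQH : Q ≤ H)
    (hW : ∀ h ∈ H, ∀ w ∈ W, ρ h w ∈ W) : Twisted (subRep ρ H W hW) (Q.subgroupOf H) := by
  refine ⟨fun g hg h hh => ?_, fun g hg => ⟨mul_mem hg hg, fun h hh => ?_⟩⟩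
  · obtain ⟨c, hc⟩ := hT.scal g hg h hh
    exact ⟨c, LinearMap.ext fun w => Subtype.ext (LinearMap.congr_fun hc w)⟩
  · exact LinearMap.ext fun w => Subtype.ext
      (LinearMap.congr_fun ((hT.sq g hg).2 h hh) w)

theorem rad_sub {W : Submodule K V} {H : Subgroup G} (hT : Twisted ρ Q) (hQH : Q ≤ H)
    (hW : ∀ h ∈ H, ∀ w ∈ W, ρ h w ∈ W) (hW0 : W ≠ ⊥) (g : H) :
    g ∈ rad (subRep ρ H W hW) (Q.subgroupOf H) ↔ (g : G) ∈ rad ρ Q := by
  refine ⟨fun hg => ⟨hg.1, fun h hh => ?_⟩, fun hg => ⟨hg.1, fun h hh =>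
    LinearMap.ext fun w => Subtype.ext (LinearMap.congr_fun (hg.2 h hh) w)⟩⟩
  obtain ⟨c, hc⟩ := hT.scal g hg.1 h hh
  obtain ⟨w, hw, hw0⟩ := W.exists_mem_ne_zero_of_ne_bot hW0
  have h1 : (ρ (g : G) * ρ h) w = (ρ h * ρ (g : G)) w :=
    congrArg Subtype.val (LinearMap.congr_fun (hg.2 ⟨h, hQH hh⟩ hh) ⟨w, hw⟩)
  have h2 := LinearMap.congr_fun hc w
  rw [h1, LinearMap.smul_apply] at h2
  have h3 : (ρ h * ρ (g : G)) w ≠ 0 := fun h0 => hw0 (by
    rw [Module.End.mul_apply] at h0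
    rw [← rep_inv_self ρ (g : G) w, ← rep_inv_self ρ h (ρ (g : G) w), h0, map_zero, map_zero])
  have hc1 : (c - 1) • (ρ h * ρ (g : G)) w = 0 := by rw [sub_smul, one_smul, ← h2, sub_self]
  rw [hc, sub_eq_zero.1 ((smul_eq_zero.1 hc1).resolve_right h3), one_smul]

variable [IsAlgClosed K] [FiniteDimensional K V] [Nontrivial V] [Finite G]

/-- Representatives of `Q` modulo the radical form a basis of all operators. -/
theorem exists_basis (hT : Twisted ρ Q)
    (hirr : ∀ W : Submodule K V, (∀ g ∈ Q, Submodule.map (ρ g) W ≤ W) → W = ⊥ ∨ W = ⊤)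
    (hscal : ∀ z ∈ rad ρ Q, ∃ c : K, ρ z = c • 1) :
    ∃ b : Module.Basis (Q ⧸ (rad ρ Q).subgroupOf Q) K (Module.End K V),
      (∀ g : Q, ∃ c : K, ρ (g : G) = c • b (g : Q ⧸ (rad ρ Q).subgroupOf Q)) ∧
      Nat.card (Q ⧸ (rad ρ Q).subgroupOf Q) = Module.finrank K V ^ 2 := by
  classical
  let ι := Q ⧸ (rad ρ Q).subgroupOf Q
  let v : ι → Module.End K V := fun u => ρ ((u.out : Q) : G)
  have hcos : ∀ g : Q, ∃ c : K, ρ (g : G) = c • v (g : ι) := by
    intro g
    have h1 : ((g : ι).out)⁻¹ * g ∈ (rad ρ Q).subgroupOf Q :=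
      QuotientGroup.eq.1 (QuotientGroup.out_eq' _)
    obtain ⟨c, hc⟩ := hscal _ (mem_subgroupOf.1 h1)
    refine ⟨c, ?_⟩
    show _ = c • ρ _
    rw [← mul_one (ρ (((g : ι).out : Q) : G)), ← mul_smul_comm, ← hc, ← map_mul]
    simp
  have hsc : ∀ g h : Q, ∃ c : K, ρ (g : G) * ρ (h : G) = c • (ρ (h : G) * ρ (g : G)) :=
    fun g h => hT.scal g g.2 h h.2
  choose ε hε using hsc
  let F : Q → Module.End K (Module.End K V) := fun h =>
    LinearMap.mulLeft K (ρ (h : G)) * LinearMap.mulRight K (ρ (h : G)⁻¹)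
  have hv : ∀ u, v u ∈ weight F (fun h => ε h u.out) := fun u => mem_weight.2 fun h => by
    show ρ (h : G) * (v u * ρ (h : G)⁻¹) = _
    rw [← mul_assoc, hε h u.out, smul_mul_assoc, mul_assoc, ← map_mul ρ (h : G), mul_inv_cancel,
      map_one, mul_one]
  have hne0 : ∀ g : G, ρ g ≠ 0 := fun g h0 => by
    have h1 : ρ g * ρ g⁻¹ = 1 := by rw [← map_mul, mul_inv_cancel, map_one]
    rw [h0, zero_mul] at h1
    exact zero_ne_one h1
  have hinj : Function.Injective fun u : ι => fun h : Q => ε h u.out := by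
    intro u u' huu
    rw [← QuotientGroup.out_eq' u, ← QuotientGroup.out_eq' u', QuotientGroup.eq, mem_subgroupOf]
    refine ⟨((u.out)⁻¹ * u'.out : Q).2, fun h hh => ?_⟩
    set r := ((u.out)⁻¹ * u'.out : Q) with hr
    have he : (ε ⟨h, hh⟩ u.out) = ε ⟨h, hh⟩ u'.out := congrFun huu ⟨h, hh⟩
    have e1 : ρ ((u.out : Q) : G) * ρ (r : G) = ρ ((u'.out : Q) : G) := by
      rw [← map_mul, hr]; simp
    have hc0 : ε ⟨h, hh⟩ u.out ≠ 0 := fun h0 => by
      have := hε ⟨h, hh⟩ u.out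
      rw [h0, zero_smul, ← map_mul] at this
      exact hne0 _ this
    have h2 : ε ⟨h, hh⟩ u.out • (ρ ((u.out : Q) : G) * (ρ (r : G) * ρ h)) =
        ε ⟨h, hh⟩ u.out • (ρ ((u.out : Q) : G) * (ρ h * ρ (r : G))) := by
      conv_lhs => rw [← mul_assoc, e1, he, ← hε ⟨h, hh⟩ u'.out, ← e1, ← mul_assoc]
      rw [← mul_assoc (ρ ((u.out : Q) : G)), ← smul_mul_assoc, ← hε ⟨h, hh⟩ u.out]
    have h3 := smul_right_injective (Module.End K V) hc0 h2
    have h4 := congrArg (fun f => ρ ((u.out : Q) : G)⁻¹ * f) h3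
    simpa only [← mul_assoc, ← map_mul, inv_mul_cancel, one_mul] using h4
  have hli : LinearIndependent K v :=
    CfsgLib.HallHigman.linearIndependent_weight F v _ hinj hv fun u => hne0 _
  have hsp : (⊤ : Submodule K (Module.End K V)) ≤ Submodule.span K (Set.range v) := by
    intro f _
    refine Submodule.span_le.2 ?_ (CfsgLib.HallHigman.burnside ρ Q hirr f)
    rintro _ ⟨g, hg, rfl⟩
    obtain ⟨c, hc⟩ := hcos ⟨g, hg⟩
    rw [SetLike.mem_coe, show ρ g = c • v _ from hc]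
    exact Submodule.smul_mem _ _ (Submodule.subset_span ⟨_, rfl⟩)
  refine ⟨Module.Basis.mk hli hsp, fun g => by simpa using hcos g, ?_⟩
  rw [← Module.finrank_eq_nat_card_basis (Module.Basis.mk hli hsp), pow_two]
  exact Module.finrank_linearMap K K V V

end Twisted

variable (p : ℕ) [hp : Fact p.Prime]

/-- The operators `ρ x` permute a weight space in a block of size `p ^ a`. -/
theorem block [CharP K p] [FiniteDimensional K V] (ρ : Representation K G V) (Z : Subgroup G)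
    (hZc : ∀ a ∈ Z, ∀ b ∈ Z, ρ a * ρ b = ρ b * ρ a) (x : G) (hxZ : x ∈ normalizer (Z : Set G))
    (n : ℕ) (hx : x ^ p ^ n = 1) (l : Z → K) (hl : weight (fun z : Z => ρ (z : G)) l ≠ ⊥)
    (s : ℕ) (hs : (ρ x - 1) ^ s = 0) (hsn : s < p ^ n) :
    ∃ a < n, (∀ (z : Z) (hz : (x ^ p ^ a)⁻¹ * z * x ^ p ^ a ∈ Z), l ⟨_, hz⟩ = l z) ∧
      ∀ w ∈ weight (fun z : Z => ρ (z : G)) l, ((ρ (x ^ p ^ a) - 1) ^ (s / p ^ a)) w = 0 := by
  classical
  have hpp := hp.out
  let F := fun z : Z => ρ (z : G)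
  have hcj : ∀ (i : ℕ) (z : Z), (x ^ i)⁻¹ * z * x ^ i ∈ Z := fun i z =>
    (mem_normalizer_iff''.1 (pow_mem hxZ i) z).1 z.2
  let tw : ℕ → Z → K := fun i z => l ⟨_, hcj i z⟩
  have htw0 : ∀ i, x ^ i = 1 → tw i = l := fun i hi => funext fun z =>
    congrArg l (Subtype.ext (by simp [hi]))
  have htwW : ∀ (i : ℕ), ∀ w ∈ weight F l, ρ (x ^ i) w ∈ weight F (tw i) := by
    intro i w hw
    refine mem_weight.2 fun z => ?_
    show ρ (z : G) (ρ (x ^ i) w) = tw i z • ρ (x ^ i) w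
    rw [← map_smul, show tw i z • w = ρ ((x ^ i)⁻¹ * z * x ^ i) w from
      (mem_weight.1 hw ⟨_, hcj i z⟩).symm, ← rep_mul, ← rep_mul]
    congr 2
    group
  have hadd : ∀ (i j : ℕ) (z : Z), tw (i + j) z = tw j ⟨_, hcj i z⟩ := fun i j z =>
    congrArg l (Subtype.ext (by
      show (x ^ (i + j))⁻¹ * z * x ^ (i + j) = (x ^ j)⁻¹ * ((x ^ i)⁻¹ * z * x ^ i) * x ^ j
      rw [pow_add]; group))
  have hex : ∃ k, 0 < k ∧ tw k = l := ⟨p ^ n, pow_pos hpp.pos n, htw0 _ hx⟩
  set k := Nat.find hex with hkdef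
  obtain ⟨hk0, hkl⟩ : 0 < k ∧ tw k = l := Nat.find_spec hex
  have hper : ∀ t i, tw (i + t * k) = tw i := by
    intro t
    induction t with
    | zero => simp
    | succ t ih =>
      intro i
      rw [Nat.succ_mul, ← add_assoc]
      funext z
      rw [hadd _ k, hkl]
      exact congrFun (ih i) z
  obtain ⟨a, han, hka⟩ : ∃ a ≤ n, k = p ^ a := by
    refine (Nat.dvd_prime_pow hpp).1 (Nat.dvd_of_mod_eq_zero ?_)
    by_contra hr
    have h1 := hper (p ^ n / k) (p ^ n % k)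
    rw [mul_comm, Nat.mod_add_div, htw0 _ hx] at h1
    exact absurd (Nat.find_min' hex ⟨Nat.pos_of_ne_zero hr, h1.symm⟩)
      (not_le.2 (Nat.mod_lt _ hk0))
  haveI : Nontrivial V := by
    obtain ⟨w, -, hw0⟩ := (weight F l).exists_mem_ne_zero_of_ne_bot hl
    exact ⟨⟨w, 0, hw0⟩⟩
  haveI : CharP (Module.End K V) p := charP_of_injective_algebraMap
    (algebraMap K (Module.End K V)).injective p
  have hblock : ∀ w ∈ weight F l, ((ρ x - 1) ^ (k - 1)) w = 0 → w = 0 := by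
    intro w hw h0
    by_contra hw0
    rw [hka, ← CfsgLib.HallHigman.sum_pow_mul_pow (R := Module.End K V) p a
      (Commute.one_right (ρ x)), LinearMap.sum_apply] at h0
    have hli := CfsgLib.HallHigman.linearIndependent_weight F (fun i : Fin k => ρ (x ^ (i : ℕ)) w)
      (fun i : Fin k => tw (i : ℕ)) ?_ (fun i => htwW _ w hw)
      (fun i hi => hw0 (by rw [← rep_inv_self ρ (x ^ (i : ℕ)) w, hi, map_zero]))
    · have hz : ∑ i : Fin k, (1 : K) • ρ (x ^ (i : ℕ)) w = 0 := by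
        rw [Fin.sum_univ_eq_sum_range (fun i => (1 : K) • ρ (x ^ i) w), hka, ← h0]
        simp [map_pow]
      exact one_ne_zero (Fintype.linearIndependent_iff.1 hli _ hz ⟨0, hk0⟩)
    · have key : ∀ i j : Fin k, (i : ℕ) < j → tw (i : ℕ) ≠ tw (j : ℕ) := by
        intro i j hij e
        have h1 : tw ((j : ℕ) - i) = l := by
          funext z
          have hz : (x ^ (i : ℕ)) * z * (x ^ (i : ℕ))⁻¹ ∈ Z :=
            (mem_normalizer_iff.1 (pow_mem hxZ _) z).1 z.2
          have := congrFun e ⟨_, hz⟩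
          rw [← Nat.add_sub_cancel' hij.le, hadd] at this
          have e2 : (⟨_, hcj (i : ℕ) ⟨_, hz⟩⟩ : Z) = z := Subtype.ext (by simp [mul_assoc])
          rw [e2] at this
          rw [← this]
          exact congrArg l e2
        have := Nat.find_min' hex (m := (j : ℕ) - i) ⟨by omega, h1⟩
        rw [← hkdef] at this
        have := j.2
        omega
      intro i j e
      rcases lt_trichotomy (i : ℕ) (j : ℕ) with h | h | h
      · exact absurd e (key i j h)
      · exact Fin.ext h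
      · exact absurd e.symm (key j i h)
  have hstab : ∀ w ∈ weight F l, ρ (x ^ k) w ∈ weight F l := fun w hw => by
    have := htwW k w hw
    rwa [hkl] at this
  have hkill : ∀ w ∈ weight F l, ((ρ (x ^ k) - 1) ^ (s / k)) w = 0 := by
    intro w hw
    refine hblock _ ?_ ?_
    · clear hs hsn
      induction s / k with
      | zero => simpa using hw
      | succ j ih =>
        rw [pow_succ', Module.End.mul_apply, LinearMap.sub_apply, Module.End.one_apply]
        exact sub_mem (hstab _ ih) ih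
    · rw [← Module.End.mul_apply, map_pow, hka,
        show ρ x ^ p ^ a - 1 = (ρ x - 1) ^ p ^ a by
          rw [sub_pow_char_pow_of_commute (n := a) (p := p) (Commute.one_right (ρ x)), one_pow],
        ← pow_mul, ← pow_add]
      have hle : s ≤ p ^ a - 1 + p ^ a * (s / p ^ a) := by
        have := Nat.mod_add_div s (p ^ a)
        have := Nat.mod_lt s (pow_pos hpp.pos a)
        omega
      rw [pow_eq_zero_of_le hle hs, LinearMap.zero_apply]
  refine ⟨a, lt_of_le_of_ne han ?_, fun z hz => ?_, hka ▸ hkill⟩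
  · rintro rfl
    obtain ⟨w, hw, hw0⟩ := (weight F l).exists_mem_ne_zero_of_ne_bot hl
    have := hkill w hw
    rw [hka, Nat.div_eq_of_lt hsn, pow_zero] at this
    exact hw0 this
  · rw [← congrFun hkl z]
    exact congrArg l (Subtype.ext (by rw [hka]))

/-- The outcome of the count. -/
def Outcome (ρ : Representation K G V) (Q : Subgroup G) (x : G) (n : ℕ) : Prop :=
  (∀ g ∈ Q, x ^ p ^ (n - 1) * g * (x ^ p ^ (n - 1))⁻¹ * g⁻¹ ∈ rad ρ Q) ∨
  ∃ i j k : ℕ, i + j + 1 = n ∧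
    (∀ g ∈ Q, x ^ p ^ (n - 1) * g * (x ^ p ^ (n - 1))⁻¹ * g⁻¹ ∈ rad ρ Q →
      x ^ p ^ i * g * (x ^ p ^ i)⁻¹ * g⁻¹ ∈ rad ρ Q) ∧
    p ^ (j + 1) = 2 ^ k + 1 ∧
    Nat.card Q ∣ (2 ^ k) ^ 2 *
      Nat.card {g : Q // x ^ p ^ (n - 1) * g * (x ^ p ^ (n - 1))⁻¹ * (g : G)⁻¹ ∈ rad ρ Q}

theorem Outcome.transfer {V' : Type v} [AddCommGroup V'] [Module K V'] {ρ : Representation K G V}
    {Q H : Subgroup G} (hQH : Q ≤ H) {ρ' : Representation K H V'}
    (hrad : ∀ g : H, g ∈ rad ρ' (Q.subgroupOf H) ↔ (g : G) ∈ rad ρ Q) {x : G} {a m : ℕ}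
    (hm : 1 ≤ m) (x' : H) (hx' : (x' : G) = x ^ p ^ a) (h : Outcome p ρ' (Q.subgroupOf H) x' m) :
    Outcome p ρ Q x (a + m) := by
  have hy : ((x' ^ p ^ (m - 1) : H) : G) = x ^ p ^ (a + m - 1) := by
    rw [SubgroupClass.coe_pow, hx', ← pow_mul, ← pow_add, Nat.add_sub_assoc hm]
  have key : ∀ (t : H) (g : G) (hg : g ∈ Q),
      t * ⟨g, hQH hg⟩ * t⁻¹ * (⟨g, hQH hg⟩ : H)⁻¹ ∈ rad ρ' (Q.subgroupOf H) ↔
        (t : G) * g * (t : G)⁻¹ * g⁻¹ ∈ rad ρ Q := fun t g hg => by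
    rw [hrad]; rfl
  rcases h with h | ⟨i, j, k, hijm, hfix, hk, hd⟩
  · left
    intro g hg
    rw [← hy, ← key _ g hg]
    exact h ⟨g, hQH hg⟩ hg
  · refine Or.inr ⟨a + i, j, k, by omega, fun g hg => ?_, hk, ?_⟩
    · rw [← hy, show x ^ p ^ (a + i) = ((x' ^ p ^ i : H) : G) by
        rw [SubgroupClass.coe_pow, hx', ← pow_mul, ← pow_add], ← key _ g hg, ← key _ g hg]
      exact hfix ⟨g, hQH hg⟩ hg
    · rw [← Nat.card_congr (Subgroup.subgroupOfEquivOfLe hQH).toEquiv]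
      refine hd.trans (mul_dvd_mul_left _ (dvd_of_eq (Nat.card_congr ?_)))
      refine (Subgroup.subgroupOfEquivOfLe hQH).toEquiv.subtypeEquiv fun g => ?_
      rw [← hy]
      exact key _ (g : H) g.2

variable [IsAlgClosed K]

set_option maxHeartbeats 1600000 in
/-- The count on an irreducible module. -/
theorem leaf [CharP K p] [FiniteDimensional K V] [Nontrivial V] [Finite G]
    (hp2 : p ≠ 2) (ρ : Representation K G V) (Q : Subgroup G) (hQ : IsPGroup 2 Q)
    (hT : Twisted ρ Q)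
    (hirr : ∀ W : Submodule K V, (∀ g ∈ Q, Submodule.map (ρ g) W ≤ W) → W = ⊥ ∨ W = ⊤)
    (hscal : ∀ z ∈ rad ρ Q, ∃ c : K, ρ z = c • 1) (x : G) (hxQ : x ∈ normalizer (Q : Set G))
    (n : ℕ) (hn : 1 ≤ n) (hx : x ^ p ^ n = 1) (hs : (ρ x - 1) ^ (p ^ n - 1) = 0) :
    Outcome p ρ Q x n := by
  classical
  have hpp := hp.out
  obtain ⟨b, hb, hcard⟩ := hT.exists_basis hirr hscal
  set m := Module.finrank K V with hm
  set y := x ^ p ^ (n - 1) with hy
  have hyQ : y ∈ normalizer (Q : Set G) := pow_mem hxQ _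
  have hyp : y ^ p = 1 := by rw [hy, ← pow_mul, ← pow_succ, Nat.sub_add_cancel hn, hx]
  let U := Q ⧸ (rad ρ Q).subgroupOf Q
  haveI : Fintype U := Fintype.ofFinite _
  let toP : MulAut U →* Equiv.Perm U :=
    { toFun := MulEquiv.toEquiv, map_one' := rfl, map_mul' := fun _ _ => rfl }
  set σ : Equiv.Perm U := toP (uAct ρ Q ⟨x, hxQ⟩) with hσ
  have hσpow : ∀ (i : ℕ) (u : U), (σ ^ i) u = uAct ρ Q ⟨x ^ i, pow_mem hxQ i⟩ u := by
    intro i u
    rw [hσ, ← map_pow toP, ← map_pow (uAct ρ Q)]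
    rfl
  have hσn : σ ^ p ^ n = 1 := by
    rw [hσ, ← map_pow toP, ← map_pow (uAct ρ Q),
      show (⟨x, hxQ⟩ : normalizer (Q : Set G)) ^ p ^ n = 1 from Subtype.ext hx, map_one, map_one]
  obtain ⟨R, hR, a, bb, hRc, hU, hbC, heq⟩ := exists_reps σ p n hn hσn
  -- the fixed points of `y`
  set C := {u : U // (σ ^ p ^ (n - 1)) u = u} with hC
  let CQ : Subgroup G :=
    { carrier := {g | ∃ hg : g ∈ Q, uAct ρ Q ⟨y, hyQ⟩ (⟨g, hg⟩ : Q) = ((⟨g, hg⟩ : Q) : U)}
      one_mem' := ⟨one_mem Q, by rw [show (⟨1, one_mem Q⟩ : Q) = 1 from rfl, QuotientGroup.mk_one, map_one]⟩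
      mul_mem' := fun {g h} ⟨hg, e1⟩ ⟨hh, e2⟩ => ⟨mul_mem hg hh, by
        rw [show (⟨g * h, mul_mem hg hh⟩ : Q) = ⟨g, hg⟩ * ⟨h, hh⟩ from rfl, QuotientGroup.mk_mul,
          map_mul, e1, e2]⟩
      inv_mem' := fun {g} ⟨hg, e1⟩ => ⟨inv_mem hg, by
        rw [show (⟨g⁻¹, inv_mem hg⟩ : Q) = (⟨g, hg⟩ : Q)⁻¹ from rfl, QuotientGroup.mk_inv,
          map_inv, e1]⟩ }
  have hCQ : ∀ g : G, g ∈ CQ ↔ g ∈ Q ∧ y * g * y⁻¹ * g⁻¹ ∈ rad ρ Q := fun g =>
    ⟨fun ⟨hg, e⟩ => ⟨hg, (uAct_fix_iff ρ Q ⟨y, hyQ⟩ ⟨g, hg⟩).1 e⟩,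
      fun ⟨hg, h⟩ => ⟨hg, (uAct_fix_iff ρ Q ⟨y, hyQ⟩ ⟨g, hg⟩).2 h⟩⟩
  have hCQle : CQ ≤ Q := fun g hg => ((hCQ g).1 hg).1
  have hradC : rad ρ Q ≤ CQ := fun r hr =>
    (hCQ r).2 ⟨hr.1, mul_mem (conj_mem_rad ρ hyQ hr) (inv_mem hr)⟩
  have hcardQ : Nat.card Q = m ^ 2 * Nat.card (rad ρ Q) := by
    rw [Subgroup.card_eq_card_quotient_mul_card_subgroup ((rad ρ Q).subgroupOf Q), hcard,
      Nat.card_congr (Subgroup.subgroupOfEquivOfLe (rad_le ρ Q)).toEquiv]
  have hcardC : Nat.card CQ = Nat.card C * Nat.card (rad ρ Q) := by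
    have h2 := Nat.card_congr (QuotientGroup.preimageMkEquivSubgroupProdSet
      ((rad ρ Q).subgroupOf Q) {u : U | (σ ^ p ^ (n - 1)) u = u})
    rw [Nat.card_prod, Nat.card_congr (Subgroup.subgroupOfEquivOfLe (rad_le ρ Q)).toEquiv] at h2
    rw [mul_comm]
    refine Eq.trans ?_ h2
    refine Nat.card_congr
      { toFun := fun g => ⟨⟨g, hCQle g.2⟩, ?_⟩
        invFun := fun g => ⟨(g.1 : G), ?_⟩
        left_inv := fun g => rfl
        right_inv := fun g => rfl }
    · show (σ ^ p ^ (n - 1)) _ = _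
      rw [hσpow]
      exact g.2.2
    · have h3 := g.2
      change (σ ^ p ^ (n - 1)) _ = _ at h3
      rw [hσpow] at h3
      exact ⟨g.1.2, h3⟩
  -- the radical of the fixed part
  have hnd : ∀ g ∈ CQ, (∀ h ∈ CQ, ρ g * ρ h = ρ h * ρ g) → g ∈ rad ρ Q := by
    intro g hg hall
    obtain ⟨hgQ, hgy⟩ := (hCQ g).1 hg
    refine ⟨hgQ, fun h hh => ?_⟩
    obtain ⟨c, hc⟩ := hT.scal g hgQ h hh
    let h' : ℕ → G := fun t => (h * y) ^ t * (y ^ t)⁻¹
    have hrec : ∀ t, h' (t + 1) = h * (y * h' t * y⁻¹) := fun t => by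
      simp only [h', pow_succ' (h * y), pow_succ' y, mul_inv_rev]; group
    have hk : ∀ t, h' t ∈ Q ∧ ρ g * ρ (h' t) = c ^ t • (ρ (h' t) * ρ g) := by
      intro t
      induction t with
      | zero => simp [h', one_mem]
      | succ t ih =>
        rw [hrec]
        have hm' := (mem_normalizer_iff.1 hyQ _).1 ih.1
        refine ⟨mul_mem hh hm', ?_⟩
        have h5 : ρ g * ρ (y * h' t * y⁻¹) = c ^ t • (ρ (y * h' t * y⁻¹) * ρ g) := by
          set g' := y⁻¹ * g * y with hg'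
          have hg'Q : g' ∈ Q := (mem_normalizer_iff''.1 hyQ g).1 hgQ
          have hr : g'⁻¹ * g ∈ rad ρ Q := by
            have h6 := conj_mem_rad ρ (inv_mem hyQ) (inv_mem hgy)
            have h7 := inv_mem (conj_mem_rad ρ (Subgroup.le_normalizer (inv_mem hgQ)) h6)
            rw [hg']
            convert h7 using 1
            group
          have h8 : ρ g' * ρ (h' t) = c ^ t • (ρ (h' t) * ρ g') := by
            have hcr : ρ ((g'⁻¹ * g)⁻¹) * ρ (h' t) = ρ (h' t) * ρ ((g'⁻¹ * g)⁻¹) :=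
              (inv_mem hr).2 _ ih.1
            rw [show g' = g * (g'⁻¹ * g)⁻¹ by group, map_mul, mul_assoc, hcr, ← mul_assoc, ih.2,
              smul_mul_assoc, mul_assoc]
          have h9 := congrArg (fun f => ρ y * f * ρ y⁻¹) h8
          simp only [mul_smul_comm, smul_mul_assoc, ← map_mul] at h9
          rw [← map_mul, ← map_mul,
            show g * (y * h' t * y⁻¹) = y * (g' * h' t) * y⁻¹ by rw [hg']; group,
            show y * h' t * y⁻¹ * g = y * (h' t * g') * y⁻¹ by rw [hg']; group, h9]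
        rw [map_mul ρ h, ← mul_assoc, hc, smul_mul_assoc, mul_assoc, h5, mul_smul_comm, smul_smul,
          ← pow_succ', ← mul_assoc]
    obtain ⟨hhpQ, hhp⟩ := hk p
    have hhpC : h' p ∈ CQ := by
      refine (hCQ _).2 ⟨hhpQ, ?_⟩
      have hfix : (h * y) * (h * y) ^ p * (h * y)⁻¹ = (h * y) ^ p := by
        rw [(Commute.self_pow (h * y) p).eq, mul_inv_cancel_right]
      have e : h' p = (h * y) ^ p := by simp [h', hyp]
      have h10 : y * h' p * y⁻¹ * (h' p)⁻¹ = h⁻¹ * h' p * h * (h' p)⁻¹ := by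
        rw [e]
        generalize (h * y) ^ p = w at hfix ⊢
        rw [show h⁻¹ * w * h = h⁻¹ * ((h * y) * w * (h * y)⁻¹) * h by rw [hfix]]
        group
      rw [h10]
      simpa using hT.comm_mem_rad (inv_mem hh) hhpQ
    have hne : ρ (h' p) * ρ g ≠ 0 := by
      intro h0
      have := congrArg (fun f => ρ (g⁻¹ * (h' p)⁻¹) * f) h0
      simp only [← map_mul, mul_zero] at this
      rw [show g⁻¹ * (h' p)⁻¹ * (h' p * g) = 1 by group, map_one] at this
      exact one_ne_zero this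
    have hcp : c ^ p = 1 := by
      have : (c ^ p - 1) • (ρ (h' p) * ρ g) = 0 := by
        rw [sub_smul, one_smul, ← hhp, hall _ hhpC, sub_self]
      exact sub_eq_zero.1 ((smul_eq_zero.1 this).resolve_right hne)
    have hc2 : c * c = 1 := by
      have h11 : ρ (g * g) * ρ h = (c * c) • (ρ h * ρ (g * g)) := by
        rw [map_mul, mul_assoc, hc, mul_smul_comm, ← mul_assoc, hc, smul_mul_assoc, smul_smul,
          mul_assoc]
      have h12 : (c * c - 1) • (ρ h * ρ (g * g)) = 0 := by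
        rw [sub_smul, one_smul, ← h11, (hT.sq g hgQ).2 h hh, sub_self]
      refine sub_eq_zero.1 ((smul_eq_zero.1 h12).resolve_right fun h0 => ?_)
      have := congrArg (fun f => ρ ((g * g)⁻¹ * h⁻¹) * f) h0
      simp only [← map_mul, mul_zero] at this
      rw [show (g * g)⁻¹ * h⁻¹ * (h * (g * g)) = 1 by group, map_one] at this
      exact one_ne_zero this
    obtain ⟨t, ht⟩ := hpp.odd_of_ne_two hp2
    rw [ht, pow_succ, pow_mul, sq, hc2, one_pow, one_mul] at hcp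
    rw [hc, hcp, one_smul]
  -- the fixed part has square order
  obtain ⟨m', hm'⟩ : ∃ m', Nat.card C = m' ^ 2 := by
    obtain ⟨W, ⟨hW0, hWi⟩, hWmin⟩ := wellFounded_lt.has_min
      {W : Submodule K V | W ≠ ⊥ ∧ ∀ g ∈ CQ, ∀ w ∈ W, ρ g w ∈ W}
      ⟨⊤, top_ne_bot, fun _ _ _ _ => Submodule.mem_top⟩
    haveI : Nontrivial W := Submodule.nontrivial_iff_ne_bot.2 hW0
    let ρ' := subRep ρ CQ W hWi
    have hTC : Twisted ρ CQ := ⟨fun g hg h hh => hT.scal g (hCQle hg) h (hCQle hh),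
      fun g hg => ⟨mul_mem hg hg, fun h hh => (hT.sq g (hCQle hg)).2 h (hCQle hh)⟩⟩
    have hradeq : rad ρ CQ = rad ρ Q := le_antisymm (fun g hg => hnd g hg.1 hg.2)
      fun g hg => ⟨hradC hg, fun h hh => hg.2 h (hCQle hh)⟩
    obtain ⟨-, -, hc'⟩ := (hTC.sub le_rfl hWi).exists_basis
      (fun W' hW' => by
        rcases eq_or_ne (W'.map W.subtype) ⊥ with h | h
        · exact Or.inl (Submodule.map_injective_of_injective W.injective_subtype (by simpa using h))
        · right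
          refine Submodule.map_injective_of_injective W.injective_subtype ?_
          rw [Submodule.map_subtype_top]
          refine (eq_or_lt_of_le (Submodule.map_subtype_le W W')).resolve_right
            (hWmin _ ⟨h, fun g hg w hw => ?_⟩)
          obtain ⟨u, hu, rfl⟩ := hw
          exact ⟨ρ' ⟨g, hg⟩ u, hW' ⟨g, hg⟩ hg ⟨u, hu, rfl⟩, rfl⟩)
      (fun z hz => by
        rw [hTC.rad_sub le_rfl hWi hW0, hradeq] at hz
        obtain ⟨c, hc⟩ := hscal _ hz
        exact ⟨c, LinearMap.ext fun w => Subtype.ext (LinearMap.congr_fun hc w)⟩)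
    refine ⟨Module.finrank K W, Nat.eq_of_mul_eq_mul_right Nat.card_pos
      (hcardC.symm.trans ?_)⟩
    rw [← hc', ← Nat.card_congr (Subgroup.subgroupOfEquivOfLe (le_refl CQ)).toEquiv,
      Subgroup.card_eq_card_quotient_mul_card_subgroup
        ((rad (subRep ρ CQ W hWi) (CQ.subgroupOf CQ)).subgroupOf (CQ.subgroupOf CQ))]
    congr 1
    rw [Nat.card_congr (Subgroup.subgroupOfEquivOfLe (rad_le _ _)).toEquiv]
    refine Nat.card_congr
      { toFun := fun r => ⟨(r.1 : G), hradeq ▸ (hTC.rad_sub le_rfl hWi hW0 r.1).1 r.2⟩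
        invFun := fun r => ⟨⟨r, hradC r.2⟩, (hTC.rad_sub le_rfl hWi hW0 _).2 (hradeq.symm ▸ r.2)⟩
        left_inv := fun r => rfl
        right_inv := fun r => rfl }
  -- the inequality
  have hlow := sq_finrank_le_comm m V hm.symm (ρ x - 1) (p ^ n - 1) hs
  let Θ : Module.End K (Module.End K V) := LinearMap.mulLeft K (ρ x) * LinearMap.mulRight K (ρ x⁻¹)
  have hΘ : ∀ u : U, ∃ c : K, Θ (b u) = c • b (σ u) := by
    intro u
    induction u using QuotientGroup.induction_on with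
    | H g =>
      obtain ⟨c, hc⟩ := hb g
      obtain ⟨d, hd⟩ := hb ⟨x * g * x⁻¹, (mem_normalizer_iff.1 hxQ _).1 g.2⟩
      have hc0 : c ≠ 0 := fun h0 => by
        rw [h0, zero_smul] at hc
        have := congrArg (fun f => ρ ((g : G)⁻¹) * f) hc
        simp only [← map_mul, inv_mul_cancel, map_one, mul_zero] at this
        exact one_ne_zero this
      refine ⟨c⁻¹ * d, ?_⟩
      have h1 : Θ (ρ (g : G)) = d • b (σ g) := by
        show ρ x * (ρ (g : G) * ρ x⁻¹) = _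
        rw [← map_mul, ← map_mul, ← mul_assoc]
        exact hd
      rw [hc, map_smul] at h1
      rw [mul_smul, ← h1, smul_smul, inv_mul_cancel₀ hc0, one_smul]
  choose cc hcc using hΘ
  have hup := finrank_fixed_le b σ cc Θ hcc R hR (comm (ρ x - 1)) fun f hf => by
    have h1 : f * ρ x = ρ x * f := by
      have := mem_comm.1 hf
      rwa [mul_sub, sub_mul, one_mul, mul_one, sub_left_inj] at this
    show ρ x * (f * ρ x⁻¹) = f
    rw [← mul_assoc, ← h1, mul_assoc, ← map_mul, mul_inv_cancel, map_one, mul_one]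
  have hUc : m ^ 2 = a * p ^ n + m' ^ 2 := by
    rw [← hcard, Nat.card_eq_fintype_card, hU, hm']
  rw [hm'] at hbC
  obtain ⟨q, hq⟩ : ∃ q, p ^ n = q + 1 := ⟨p ^ n - 1, (Nat.succ_pred_eq_of_pos (pow_pos hpp.pos n)).symm⟩
  have hq' : p ^ n - 1 = q := by omega
  rw [hq'] at hlow
  have hineq : m ^ 2 ≤ q * (a + bb) := hlow.trans (Nat.mul_le_mul_left q (hRc ▸ hup))
  rw [hq] at hUc
  -- powers of two
  obtain ⟨N, hN⟩ := IsPGroup.iff_card.1 hQ
  obtain ⟨A, -, hA⟩ := (Nat.dvd_prime_pow Nat.prime_two).1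
    (hN ▸ hcardQ ▸ dvd_mul_of_dvd_left (dvd_pow_self m two_ne_zero) _ : m ∣ 2 ^ N)
  obtain ⟨B, -, hB⟩ := (Nat.dvd_prime_pow Nat.prime_two).1
    (hN ▸ ((dvd_pow_self m' two_ne_zero).trans (hm' ▸ (hcardC ▸ dvd_mul_right _ _))).trans
      (Subgroup.card_dvd_of_le hCQle) : m' ∣ 2 ^ N)
  have hm0 : 0 < m := Module.finrank_pos
  have hBA : B ≤ A := (Nat.pow_le_pow_iff_right one_lt_two).1 (by
    rw [← hA, ← hB]
    exact Nat.pow_le_pow_iff_left two_ne_zero |>.1 (hUc ▸ Nat.le_add_left _ _))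
  set d := 2 ^ (A - B) with hd
  have hmm : m = d * m' := by rw [hd, hA, hB, ← pow_add, Nat.sub_add_cancel hBA]
  have hm'0 : 0 < m' := hB ▸ Nat.two_pow_pos B
  have hd1 : 1 ≤ d := Nat.one_le_two_pow
  have hsq : m ^ 2 ≤ q ^ 2 * m' ^ 2 := by nlinarith
  have hdq : d ≤ q := by
    rw [hmm, ← mul_pow] at hsq
    exact Nat.le_of_mul_le_mul_right ((Nat.pow_le_pow_iff_left two_ne_zero).1 hsq) hm'0
  by_cases hd2 : d = 1
  · left
    intro g hg
    have hUeq : Nat.card C = Fintype.card U := by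
      rw [← Nat.card_eq_fintype_card, hcard, hm', hmm, hd2, one_mul]
    have hall : ∀ u : U, (σ ^ p ^ (n - 1)) u = u := fun u => by
      by_contra hu
      have : Nat.card C < Fintype.card U := by
        rw [Nat.card_eq_fintype_card]
        exact Fintype.card_subtype_lt (x := u) hu
      omega
    have h1 := hall ((⟨g, hg⟩ : Q) : U)
    rw [hσpow] at h1
    exact (uAct_fix_iff ρ Q ⟨y, hyQ⟩ ⟨g, hg⟩).1 h1
  · have hdA : 0 < A - B := Nat.pos_of_ne_zero fun h => hd2 (by rw [hd, h, pow_zero])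
    have hdodd : ∀ t, t ∣ d - 1 → t ∣ d + 1 → t ∣ 2 := fun t h1 h2 => by
      have := Nat.dvd_sub h2 h1
      rwa [show d + 1 - (d - 1) = 2 by omega] at this
    have hpd : p ^ n ∣ (d - 1) * (d + 1) := by
      have h1 : p ^ n ∣ m' ^ 2 * ((d - 1) * (d + 1)) := ⟨a, by
        have h2 : (d - 1) * (d + 1) + 1 = d * d := by
          obtain ⟨r, hr⟩ := Nat.exists_eq_add_of_le hd1
          rw [hr, Nat.add_sub_cancel_left]; ring
        rw [hq]
        have h3 : m ^ 2 = m' ^ 2 * ((d - 1) * (d + 1) + 1) := by rw [h2, hmm]; ring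
        nlinarith⟩
      refine Nat.Coprime.dvd_of_dvd_mul_left ?_ h1
      rw [hB, ← pow_mul]
      exact ((Nat.coprime_primes hpp Nat.prime_two).2 hp2).pow _ _
    have hk : d + 1 = p ^ n := by
      by_cases hp1 : p ∣ d - 1
      · exfalso
        have hnd1 : ¬ p ∣ d + 1 := fun h => hp2
          ((Nat.prime_dvd_prime_iff_eq hpp Nat.prime_two).1 (hdodd p hp1 h))
        have h1 : p ^ n ∣ d - 1 :=
          ((hpp.coprime_iff_not_dvd.2 hnd1).pow_left n).dvd_of_dvd_mul_right hpd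
        have := Nat.le_of_dvd (by omega) h1
        omega
      · have h1 : p ^ n ∣ d + 1 :=
          ((hpp.coprime_iff_not_dvd.2 hp1).pow_left n).dvd_of_dvd_mul_left hpd
        have := Nat.le_of_dvd (by omega) h1
        omega
    have hdeq : d = q := by omega
    have hbeq : bb = Nat.card C := by
      rw [hm']
      by_contra hne
      have hlt : bb < m' ^ 2 := lt_of_le_of_ne hbC hne
      have : m ^ 2 < q ^ 2 * m' ^ 2 := by nlinarith
      rw [hmm, hdeq, mul_pow] at this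
      exact lt_irrefl _ this
    refine Or.inr ⟨0, n - 1, A - B, by omega, fun g hg hgy => ?_,
      by rw [Nat.sub_add_cancel hn, ← hk], ?_⟩
    · rw [pow_zero, pow_one]
      have h1 : (σ ^ p ^ (n - 1)) ((⟨g, hg⟩ : Q) : U) = ((⟨g, hg⟩ : Q) : U) := by
        rw [hσpow]
        exact (uAct_fix_iff ρ Q ⟨y, hyQ⟩ ⟨g, hg⟩).2 hgy
      exact (uAct_fix_iff ρ Q ⟨x, hxQ⟩ ⟨g, hg⟩).1 (heq hbeq _ h1)
    · have h1 : Nat.card {g : Q // y * g * y⁻¹ * (g : G)⁻¹ ∈ rad ρ Q} = Nat.card CQ :=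
        Nat.card_congr
          { toFun := fun g => ⟨g.1, (hCQ _).2 ⟨g.1.2, g.2⟩⟩
            invFun := fun g => ⟨⟨g, hCQle g.2⟩, ((hCQ _).1 g.2).2⟩
            left_inv := fun g => rfl
            right_inv := fun g => rfl }
      rw [h1, hcardQ, hcardC, hm', hmm, hd, mul_pow, mul_assoc]

/-- The count. -/
theorem count [CharP K p] (hp2 : p ≠ 2) : ∀ (n : ℕ), 1 ≤ n → ∀ (G : Type u) [Group G] [Finite G]
    (V : Type v) [AddCommGroup V] [Module K V] [FiniteDimensional K V] [Nontrivial V]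
    (ρ : Representation K G V) (Q : Subgroup G), IsPGroup 2 Q → Twisted ρ Q → ∀ (x : G),
    x ∈ normalizer (Q : Set G) → x ^ p ^ n = 1 → (ρ x - 1) ^ (p ^ n - 1) = 0 →
    Outcome p ρ Q x n := by
  intro n
  induction n using Nat.strong_induction_on with
  | _ n IH =>
  intro hn G _ _ V _ _ _ _ ρ Q hQ hT x hxQ hx hs
  classical
  have hpp := hp.out
  -- an irreducible submodule
  let H := Q ⊔ zpowers x
  have hQH : Q ≤ H := le_sup_left
  have hxH : x ∈ H := mem_sup_right (mem_zpowers x)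
  obtain ⟨W, ⟨hW0, hWi⟩, hWmin⟩ := wellFounded_lt.has_min
    {W : Submodule K V | W ≠ ⊥ ∧ ∀ g ∈ H, ∀ w ∈ W, ρ g w ∈ W}
    ⟨⊤, top_ne_bot, fun _ _ _ _ => Submodule.mem_top⟩
  haveI : Nontrivial W := Submodule.nontrivial_iff_ne_bot.2 hW0
  let ρ₀ := subRep ρ H W hWi
  let Q₀ := Q.subgroupOf H
  let x₀ : H := ⟨x, hxH⟩
  haveI hQ₀n : Q₀.Normal := (normal_subgroupOf_iff_le_normalizer hQH).2
    (sup_le Subgroup.le_normalizer (zpowers_le.2 hxQ))
  have hT₀ : Twisted ρ₀ Q₀ := hT.sub hQH hWi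
  have hirr₀ : ∀ W' : Submodule K W, (∀ g : H, ∀ w ∈ W', ρ₀ g w ∈ W') → W' = ⊥ ∨ W' = ⊤ := by
    intro W' hW'
    rcases eq_or_ne (W'.map W.subtype) ⊥ with h | h
    · exact Or.inl (Submodule.map_injective_of_injective W.injective_subtype (by simpa using h))
    · right
      refine Submodule.map_injective_of_injective W.injective_subtype ?_
      rw [Submodule.map_subtype_top]
      refine (eq_or_lt_of_le (Submodule.map_subtype_le W W')).resolve_right
        (hWmin _ ⟨h, fun g hg w hw => ?_⟩)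
      obtain ⟨u, hu, rfl⟩ := hw
      exact ⟨ρ₀ ⟨g, hg⟩ u, hW' ⟨g, hg⟩ u hu, rfl⟩
  have hs₀ : (ρ₀ x₀ - 1) ^ (p ^ n - 1) = 0 := LinearMap.ext fun w => Subtype.ext
    ((subRep_sub_one_pow ρ H W hWi x₀ _ w).trans (LinearMap.congr_fun hs (w : V)))
  have hx₀ : x₀ ^ p ^ n = 1 := Subtype.ext hx
  suffices h : Outcome p ρ₀ Q₀ x₀ n by
    simpa using h.transfer (x := x) (a := 0) p hQH (hT.rad_sub hQH hWi hW0) hn x₀ (by simp [x₀])
  have hQ₀ : IsPGroup 2 Q₀ := hQ.comap_subtype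
  have hxQ₀ : x₀ ∈ normalizer (Q₀ : Set H) := by
    rw [Subgroup.normalizer_eq_top]; exact mem_top _
  -- weights of the radical
  set Z := rad ρ₀ Q₀ with hZdef
  have hZc : ∀ a ∈ Z, ∀ b ∈ Z, ρ₀ a * ρ₀ b = ρ₀ b * ρ₀ a := fun a ha b hb => ha.2 b hb.1
  obtain ⟨l, hl⟩ := CfsgLib.HallHigman.exists_weight (fun z : Z => ρ₀ (z : H))
    (fun a b => hZc a a.2 b b.2)
  by_cases htop : weight (fun z : Z => ρ₀ (z : H)) l = ⊤
  · have hscal : ∀ z ∈ rad ρ₀ Q₀, ∃ c : K, ρ₀ z = c • 1 := fun z hz =>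
      ⟨l ⟨z, hz⟩, LinearMap.ext fun w => mem_weight.1 (htop.ge Submodule.mem_top) ⟨z, hz⟩⟩
    have hgen : Q₀ ⊔ zpowers x₀ = ⊤ := by
      refine Subgroup.map_injective H.subtype_injective ?_
      rw [Subgroup.map_sup, Subgroup.map_subgroupOf_eq_of_le hQH, MonoidHom.map_zpowers,
        ← MonoidHom.range_eq_map, Subgroup.range_subtype]
      rfl
    -- pass to the image for irreducibility
    let f : H →* (Module.End K W)ˣ := ρ₀.toHomUnits
    let π : H →* H ⧸ f.ker := QuotientGroup.mk' f.ker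
    let τ : Representation K (H ⧸ f.ker) W :=
      (Units.coeHom (Module.End K W)).comp (QuotientGroup.kerLift f)
    have hτi : Function.Injective τ :=
      Units.val_injective.comp (QuotientGroup.kerLift_injective f)
    have hsurj : Function.Surjective π := QuotientGroup.mk'_surjective f.ker
    let R' := Q₀.map π
    haveI : R'.Normal := Subgroup.Normal.map inferInstance _ hsurj
    have hQirr := CfsgLib.HallHigman.irreducible_of_scalar τ R' hτi (π x₀)
      (by rw [← MonoidHom.map_zpowers, ← Subgroup.map_sup, hgen, Subgroup.map_top_of_surjective _ hsurj])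
      (fun W' hW' => hirr₀ W' fun g w hw => hW' (π g) w hw)
      (fun z hz hzc => by
        obtain ⟨z, hz, rfl⟩ := hz
        refine hscal z ⟨hz, fun g hg => ?_⟩
        have := congrArg τ (hzc (π g) ⟨g, hg, rfl⟩)
        rw [map_mul, map_mul] at this
        exact this.symm)
      (fun g hg h hh k hk => hτi (by
        obtain ⟨g, hg, rfl⟩ := hg
        obtain ⟨h, hh, rfl⟩ := hh
        obtain ⟨c, hc⟩ := hT₀.comm_scalar hg hh
        rw [← map_inv π, ← map_inv π, ← map_mul π, ← map_mul π, ← map_mul π, map_mul τ, map_mul τ,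
          show τ (π (g * h * g⁻¹ * h⁻¹)) = c • 1 from hc, mul_smul_comm, smul_mul_assoc, one_mul,
          mul_one]))
    refine leaf p hp2 ρ₀ Q₀ hQ₀ hT₀ (fun W' hW' => hQirr W' ?_) hscal x₀ hxQ₀ n hn hx₀ hs₀
    rintro _ ⟨g, hg, rfl⟩
    exact hW' g hg
  · obtain ⟨a, han, hfix, hkill⟩ := block p ρ₀ Z hZc x₀
      (mem_normalizer_iff.2 fun r => ⟨conj_mem_rad ρ₀ hxQ₀, fun h => by
        simpa [mul_assoc] using conj_mem_rad ρ₀ (inv_mem hxQ₀) h⟩)
      n hx₀ l hl _ hs₀ (Nat.sub_lt (pow_pos hpp.pos n) Nat.one_pos)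
    set Wl := weight (fun z : Z => ρ₀ (z : H)) l with hWl
    let S : Subgroup H :=
      { carrier := {g | ∀ w, ρ₀ g w ∈ Wl ↔ w ∈ Wl}
        one_mem' := fun w => by simp
        mul_mem' := fun {g h} hg hh w => by rw [rep_mul]; exact (hg _).trans (hh w)
        inv_mem' := fun {g} hg w => by rw [← hg (ρ₀ g⁻¹ w), rep_self_inv] }
    have hmemS : ∀ g : H, (∀ w ∈ Wl, ρ₀ g w ∈ Wl) → g ∈ S := by
      intro g hg w
      refine ⟨fun hw => ?_, hg w⟩
      let g' : Wl →ₗ[K] Wl := (ρ₀ g).restrict hg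
      have hinj : Function.Injective g' := fun u u' h => Subtype.ext (by
        rw [← rep_inv_self ρ₀ g (u : W), ← rep_inv_self ρ₀ g (u' : W)]
        exact congrArg (ρ₀ g⁻¹) (congrArg Subtype.val h))
      obtain ⟨u, hu⟩ := LinearMap.injective_iff_surjective.1 hinj ⟨_, hw⟩
      have hu' : ρ₀ g (u : W) = ρ₀ g w := congrArg Subtype.val hu
      rw [← rep_inv_self ρ₀ g w, ← hu', rep_inv_self]
      exact u.2
    have hQS : Q₀ ≤ S := fun g hg => hmemS g fun w hw => mem_weight.2 fun z => by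
      rw [← rep_mul, map_mul, z.2.2 g hg, Module.End.mul_apply, mem_weight.1 hw z, map_smul]
    have hxS : x₀ ^ p ^ a ∈ S := hmemS _ fun w hw => mem_weight.2 fun z => by
      have hz : (x₀ ^ p ^ a)⁻¹ * z * x₀ ^ p ^ a ∈ Z := by
        have := conj_mem_rad ρ₀ (inv_mem (pow_mem hxQ₀ (p ^ a))) z.2
        rwa [inv_inv] at this
      rw [← map_smul, ← hfix z hz, ← mem_weight.1 hw ⟨_, hz⟩, ← rep_mul, ← rep_mul]
      congr 2
      group
    rcases Nat.eq_zero_or_pos a with rfl | ha0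
    · refine absurd ((hirr₀ Wl fun g w hw => ?_).resolve_left hl) htop
      have : S = ⊤ := by
        have hgen : Q₀ ⊔ zpowers x₀ = ⊤ := by
          refine Subgroup.map_injective H.subtype_injective ?_
          rw [Subgroup.map_sup, Subgroup.map_subgroupOf_eq_of_le hQH, MonoidHom.map_zpowers,
            ← MonoidHom.range_eq_map, Subgroup.range_subtype]
          rfl
        rw [eq_top_iff, ← hgen, sup_le_iff, zpowers_le]
        exact ⟨hQS, by simpa using hxS⟩
      exact ((this ▸ mem_top g : g ∈ S) w).2 hw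
    haveI : Nontrivial Wl := Submodule.nontrivial_iff_ne_bot.2 hl
    have hSW : ∀ g ∈ S, ∀ w ∈ Wl, ρ₀ g w ∈ Wl := fun g hg w hw => (hg w).2 hw
    let ρ₁ := subRep ρ₀ S Wl hSW
    let x₁ : S := ⟨x₀ ^ p ^ a, hxS⟩
    have hres := IH (n - a) (by omega) (by omega) S Wl ρ₁ (Q₀.subgroupOf S) hQ₀.comap_subtype
      (hT₀.sub hQS hSW) x₁ (by
        haveI : (Q₀.subgroupOf S).Normal := inferInstance
        rw [Subgroup.normalizer_eq_top]; exact mem_top _)
      (Subtype.ext (by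
        show (x₀ ^ p ^ a) ^ p ^ (n - a) = 1
        rw [← pow_mul, ← pow_add, Nat.add_sub_cancel' han.le, hx₀]))
      (LinearMap.ext fun w => Subtype.ext (by
        rw [subRep_sub_one_pow]
        show ((ρ₀ (x₀ ^ p ^ a) - 1) ^ (p ^ (n - a) - 1)) (w : W) = 0
        have hle : (p ^ n - 1) / p ^ a ≤ p ^ (n - a) - 1 := by
          have h1 : (p ^ n - 1) / p ^ a < p ^ (n - a) := by
            rw [Nat.div_lt_iff_lt_mul (pow_pos hpp.pos a), ← pow_add, Nat.sub_add_cancel han.le]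
            exact Nat.sub_lt (pow_pos hpp.pos n) Nat.one_pos
          omega
        obtain ⟨t, ht⟩ := Nat.exists_eq_add_of_le hle
        rw [ht, add_comm, pow_add, Module.End.mul_apply, hkill w w.2, map_zero]))
    have := hres.transfer (x := x₀) (a := a) p hQS (hT₀.rad_sub hQS hSW hl) (by omega) x₁ rfl
    rwa [Nat.add_sub_cancel' han.le] at this

end CfsgLib.HHExponent
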