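import Cfsg.Agent.HallHigman.Exponent.Commute
import Cfsg.Agent.ZJ.ConjModule
import Cfsg.Agent.FGSA.PLengthSeries
import Cfsg.Agent.PLocal.PConstrained
import Cfsg.Agent.Solvable.CoprimeAct

/-!
The bound of Hall and Higman on the p-length in terms of the exponent of a Sylow p-subgroup.
-/

set_option autoImplicit false
set_option linter.style.haveILetI false
set_option linter.unusedSectionVars false

namespace CfsgLib.HHExponent

open Subgroup


universe u

variable {p : ℕ} [hp : Fact p.Prime]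

/-- The linear group on the Frattini quotient of `O_p`. -/
theorem exists_rep {Y : Type u} [Group Y] [Finite Y] (h0 : Cfsg.pPrimeCore p Y = ⊥)
    (hs : Cfsg.IsPSolvable p Y) [(Cfsg.pCore p Y).Normal] :
    ∃ (d : ℕ) (ρ : Representation (AlgebraicClosure (ZMod p)) (Y ⧸ Cfsg.pCore p Y)
        (Fin d → AlgebraicClosure (ZMod p))), Function.Injective ρ ∧
      (∀ (x : Y) (n : ℕ), (∀ f ∈ Cfsg.pCore p Y, (f * x) ^ p ^ n = x ^ p ^ n) →
        (ρ (QuotientGroup.mk x) - 1) ^ (p ^ n - 1) = 0) ∧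
      (∀ (x : Y) (n : ℕ), (∀ f ∈ Cfsg.pCore p Y, Commute ((f * x) ^ p ^ n) (x ^ p ^ n)) →
        (ρ (QuotientGroup.mk x) - 1) ^ (2 * p ^ n - 1) = 0) := by
  classical
  set F := Cfsg.pCore p Y with hF
  set Φ := (frattini F).map F.subtype with hΦ
  haveI hΦn : Φ.Normal := ConjAct.normal_of_characteristic_of_normal
  set π := QuotientGroup.mk' Φ with hπ
  set V := F.map π with hV
  haveI hVn : V.Normal := Subgroup.Normal.map inferInstance π (QuotientGroup.mk'_surjective Φ)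
  have hFp : IsPGroup p F := CfsgLib.Solvable.isPGroup_pCore p
  obtain ⟨hcom, hpow⟩ := CfsgLib.PGroupBasic.commutator_pow_le_frattini hFp
  haveI hVc : IsMulCommutative V := ⟨⟨by
    rintro ⟨_, a, ha, rfl⟩ ⟨_, b, hb, rfl⟩
    refine Subtype.ext ?_
    show π a * π b = π b * π a
    rw [← mul_inv_eq_one, ← map_mul, ← map_mul, ← map_inv, ← map_mul]
    refine (QuotientGroup.eq_one_iff _).2 ⟨(⟨a, ha⟩ : F) * ⟨b, hb⟩ * (⟨b, hb⟩ * ⟨a, ha⟩)⁻¹, hcom ?_, rfl⟩
    rw [_root_.commutator_def, mul_inv_rev, ← mul_assoc]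
    exact commutator_mem_commutator (mem_top (⟨a, ha⟩ : F)) (mem_top (⟨b, hb⟩ : F))⟩⟩
  have hVel : Cfsg.IsElementaryAbelian p V := ⟨hVc, by
    rintro _ ⟨a, ha, rfl⟩
    rw [← map_pow]
    exact (QuotientGroup.eq_one_iff _).2 ⟨(⟨a, ha⟩ : F) ^ p, hpow _, rfl⟩⟩
  -- the kernel of the action on `V`
  set C0 := (centralizer (V : Set (Y ⧸ Φ))).comap π with hC0
  haveI : C0.Normal := Subgroup.Normal.comap Subgroup.normal_centralizer π
  have hC0F : C0 ≤ F := by
    refine CfsgLib.Solvable.le_pCore p inferInstance ?_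
    intro c
    obtain ⟨k, r₀, hk1, hk2⟩ :=
      Nat.exists_eq_pow_mul_and_not_dvd (orderOf_pos (c : Y)).ne' p hp.out.ne_one
    refine ⟨k, Subtype.ext ?_⟩
    show (c : Y) ^ p ^ k = 1
    set d := (c : Y) ^ p ^ k with hd
    obtain ⟨r, hr, hr'⟩ : ∃ r, ¬ p ∣ r ∧ orderOf (c : Y) = p ^ k * r := ⟨_, hk1, hk2⟩
    have hdo : orderOf d = r := by
      rw [hd, orderOf_pow_of_dvd (pow_ne_zero _ hp.out.pos.ne') ⟨r, hr'⟩, hr',
        Nat.mul_div_cancel_left _ (pow_pos hp.out.pos _)]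
    have hdC : zpowers d ≤ C0 := by rw [zpowers_le]; exact pow_mem c.2 _
    have hdn : zpowers d ≤ normalizer (F : Set Y) := by rw [Subgroup.normalizer_eq_top]; exact le_top
    have hcopF : (Nat.card (zpowers d)).Coprime (Nat.card (frattini F)) := by
      rw [Nat.card_zpowers, hdo]
      obtain ⟨j, hj⟩ := IsPGroup.iff_card.1 (hFp.to_subgroup (frattini F))
      rw [hj]
      exact ((hp.out.coprime_iff_not_dvd.2 hr).symm).pow_right j
    have hcen := CfsgLib.CoprimeAct.trivial_on_frattini_quotient hdn hcopF (fun a ha f hf => by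
      show a * f * a⁻¹ * f⁻¹ ∈ Φ
      rw [← QuotientGroup.eq_one_iff]
      show π (a * f * a⁻¹ * f⁻¹) = 1
      rw [map_mul, map_mul, map_mul, map_inv, map_inv,
        ← mem_centralizer_iff.1 (hdC ha) (π f) ⟨f, hf, rfl⟩, mul_inv_cancel_right, mul_inv_cancel])
    have hdF : d ∈ F :=
      CfsgLib.PConstrained.selfCent_of_pSolvable h0
        (CfsgLib.PConstrained.isPSolvable_comap (Subgroup.subtype _) (Subgroup.subtype_injective _) hs)
        (hcen (mem_zpowers d))
    obtain ⟨j, hj⟩ := IsPGroup.iff_orderOf.1 hFp ⟨d, hdF⟩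
    rw [Subgroup.orderOf_mk, hdo] at hj
    rw [← orderOf_eq_one_iff, hdo]
    rcases Nat.eq_zero_or_pos j with rfl | hj0
    · simpa using hj
    · exact absurd (hj ▸ dvd_pow_self p hj0.ne') hr
  -- the representation
  haveI : Finite (CfsgLib.ZJ.ElabMod V hVel) := CfsgLib.ZJ.elabModFinite hVel
  let nv : Y →* normalizer (V : Set (Y ⧸ Φ)) :=
    π.codRestrict _ fun y => by rw [Subgroup.normalizer_eq_top]; exact mem_top _
  let ρ₀ : Representation (ZMod p) Y (CfsgLib.ZJ.ElabMod V hVel) := (CfsgLib.ZJ.conjEnd hVel).comp nv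
  let val : CfsgLib.ZJ.ElabMod V hVel → Y ⧸ Φ := fun u => (CfsgLib.ZJ.ofVec hVel u : V)
  have hval : ∀ y u, val (ρ₀ y u) = π y * val u * (π y)⁻¹ := fun y u => rfl
  have hval_add : ∀ a b, val (a + b) = val a * val b := fun a b => rfl
  have hvalinj : Function.Injective val := fun a b h =>
    CfsgLib.ZJ.ofVec_injective hVel (Subtype.ext h)
  have hker : ∀ y, ρ₀ y = 1 ↔ y ∈ F := by
    intro y
    show CfsgLib.ZJ.conjEnd hVel (nv y) = 1 ↔ _
    rw [CfsgLib.ZJ.conjEnd_eq_one_iff]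
    exact ⟨fun h => hC0F h, fun h => Subgroup.le_centralizer V ⟨y, h, rfl⟩⟩
  let E := Module.End (ZMod p) (CfsgLib.ZJ.ElabMod V hVel)
  haveI : Module.Finite (ZMod p) (CfsgLib.ZJ.ElabMod V hVel) := Module.Finite.of_finite
  let K := AlgebraicClosure (ZMod p)
  let b := Module.finBasis (ZMod p) (CfsgLib.ZJ.ElabMod V hVel)
  let d := Module.finrank (ZMod p) (CfsgLib.ZJ.ElabMod V hVel)
  let M : E →+* Module.End K (Fin d → K) :=
    ((Matrix.toLinAlgEquiv' (R := K) (n := Fin d)).toRingEquiv.toRingHom.comp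
      ((algebraMap (ZMod p) K).mapMatrix (m := Fin d))).comp
        (LinearMap.toMatrixAlgEquiv b).toRingEquiv.toRingHom
  have hMinj : Function.Injective M := fun u v huv =>
    (LinearMap.toMatrixAlgEquiv b).injective (Matrix.map_injective (algebraMap (ZMod p) K).injective
      (Matrix.toLinAlgEquiv'.injective huv))
  let ρ₁ : Y →* Module.End K (Fin d → K) := M.toMonoidHom.comp ρ₀
  have hρ₁ : F ≤ ρ₁.toHomUnits.ker := fun y hy => by
    refine Units.ext ?_
    show M (ρ₀ y) = 1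
    rw [(hker y).2 hy, map_one]
  let ρ : Representation K (Y ⧸ F) (Fin d → K) :=
    (Units.coeHom _).comp (QuotientGroup.lift F ρ₁.toHomUnits hρ₁)
  have hρ : ∀ y : Y, ρ (QuotientGroup.mk y) = M (ρ₀ y) := fun y => rfl
  -- norms
  have hnorm : ∀ (x : Y) (f : Y) (u : CfsgLib.ZJ.ElabMod V hVel), val u = π f → ∀ k : ℕ,
      π ((f * x) ^ k) = val ((∑ i ∈ Finset.range k, (ρ₀ x) ^ i) u) * π (x ^ k) := by
    intro x f u hu k
    induction k with
    | zero => simp; rfl
    | succ k ih =>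
      rw [pow_succ', map_mul, ih, Finset.sum_range_succ', LinearMap.add_apply, pow_zero,
        Module.End.one_apply, add_comm, hval_add, hu, map_mul, pow_succ' x, map_mul π x]
      simp only [pow_succ', ← Finset.mul_sum, Module.End.mul_apply]
      rw [hval]
      group
  have hgeom : ∀ (x : Y) (n : ℕ),
      ∑ i ∈ Finset.range (p ^ n), (ρ₀ x) ^ i = (ρ₀ x - 1) ^ (p ^ n - 1) := by
    intro x n
    rcases subsingleton_or_nontrivial (CfsgLib.ZJ.ElabMod V hVel) with h | h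
    · exact LinearMap.ext fun v => Subsingleton.elim _ _
    haveI : CharP E p := charP_of_injective_algebraMap (algebraMap (ZMod p) E).injective p
    rw [← CfsgLib.HallHigman.sum_pow_mul_pow (R := E) p n (Commute.one_right (ρ₀ x))]
    simp
  have hsurjV : ∀ u : CfsgLib.ZJ.ElabMod V hVel, ∃ f ∈ F, val u = π f := fun u => by
    obtain ⟨f, hf, he⟩ := (CfsgLib.ZJ.ofVec hVel u).2
    exact ⟨f, hf, he.symm⟩
  refine ⟨d, ρ, ?_, fun x n hx => ?_, fun x n hx => ?_⟩
  · refine (injective_iff_map_eq_one' (QuotientGroup.lift F ρ₁.toHomUnits hρ₁)).2 ?_ |> fun h =>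
      Units.val_injective.comp h
    intro q
    induction q using QuotientGroup.induction_on with
    | H y =>
      constructor
      · intro h
        refine (QuotientGroup.eq_one_iff _).2 ((hker y).1 (hMinj ?_))
        rw [map_one]
        exact congrArg Units.val h
      · intro h
        rw [h, map_one]
  · rw [hρ, ← map_one M, ← map_sub, ← map_pow, ← map_zero M]
    refine congrArg M (LinearMap.ext fun u => hvalinj ?_)
    obtain ⟨f, hf, hu⟩ := hsurjV u
    have h1 := hnorm x f u hu (p ^ n)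
    rw [hx f hf, hgeom, eq_comm, mul_eq_right] at h1
    rw [h1]
    rfl
  · rw [hρ, ← map_one M, ← map_sub, ← map_pow, ← map_zero M]
    refine congrArg M (LinearMap.ext fun u => ?_)
    obtain ⟨f, hf, hu⟩ := hsurjV u
    have h1 := hnorm x f u hu (p ^ n)
    rw [hgeom] at h1
    set w := ((ρ₀ x - 1) ^ (p ^ n - 1)) u with hw
    have h2 : π (x ^ p ^ n) * val w = val w * π (x ^ p ^ n) := by
      have h3 := congrArg π (hx f hf).eq
      rw [map_mul, map_mul, h1, ← mul_assoc] at h3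
      exact (mul_right_cancel h3).symm
    have h4 : (ρ₀ x ^ p ^ n) w = w := hvalinj (by
      rw [← map_pow, hval, h2, mul_inv_cancel_right])
    rw [show 2 * p ^ n - 1 = p ^ n + (p ^ n - 1) by have := Nat.one_le_pow n p hp.out.pos; omega,
      pow_add, Module.End.mul_apply, LinearMap.zero_apply]
    rcases subsingleton_or_nontrivial (CfsgLib.ZJ.ElabMod V hVel) with h | h
    · exact Subsingleton.elim _ _
    haveI : CharP E p := charP_of_injective_algebraMap (algebraMap (ZMod p) E).injective p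
    rw [sub_pow_char_pow_of_commute (n := n) (p := p) (Commute.one_right (ρ₀ x)), one_pow,
      LinearMap.sub_apply, Module.End.one_apply, h4, sub_self]

/-- Basic facts on `Y / O_p(Y)`. -/
theorem pCore_quotient {Y : Type u} [Group Y] [Finite Y] [(Cfsg.pCore p Y).Normal] :
    Cfsg.pCore p (Y ⧸ Cfsg.pCore p Y) = ⊥ := by
  set F := Cfsg.pCore p Y with hF
  have hle : (Cfsg.pCore p (Y ⧸ F)).comap (QuotientGroup.mk' F) ≤ F :=
    CfsgLib.Solvable.le_pCore p ((CfsgLib.Solvable.pCore_normal p).comap _)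
      ((CfsgLib.Solvable.isPGroup_pCore p).comap_of_ker_isPGroup _ (by
        rw [QuotientGroup.ker_mk']; exact CfsgLib.Solvable.isPGroup_pCore p))
  rw [← map_comap_eq_self_of_surjective (QuotientGroup.mk'_surjective F) (Cfsg.pCore p (Y ⧸ F)),
    Subgroup.map_eq_bot_iff, QuotientGroup.ker_mk']
  exact hle

variable {Y : Type u} [Group Y] [Finite Y]

/-- Part (a), the key step. -/
theorem pow_mem_of_not_exceptional (hp2 : p ≠ 2) (h0 : Cfsg.pPrimeCore p Y = ⊥)
    (hs : Cfsg.IsPSolvable p Y)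
    (hcond : (¬ ∃ k : ℕ, p = 2 ^ k + 1) ∨
      ∀ S : Subgroup Y, IsPGroup 2 S → ∀ a ∈ S, ∀ b ∈ S, a * b = b * a)
    (m : ℕ) (hexp : ∀ P : Subgroup Y, IsPGroup p P → ∀ y ∈ P, y ^ p ^ (m + 1) = 1)
    (x : Y) (hx : IsPGroup p (zpowers x)) : x ^ p ^ m ∈ Cfsg.pCore p Y := by
  haveI : (Cfsg.pCore p Y).Normal := CfsgLib.Solvable.pCore_normal p
  obtain ⟨d, ρ, hinj, hA, -⟩ := exists_rep h0 hs
  set F := Cfsg.pCore p Y with hF
  have hFp : IsPGroup p F := CfsgLib.Solvable.isPGroup_pCore p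
  refine (QuotientGroup.eq_one_iff _).1 ?_
  rw [QuotientGroup.mk_pow]
  refine powers_trivial (e := m + 1) hp2
    (CfsgLib.PConstrained.isPSolvable_map _ (QuotientGroup.mk'_surjective F) hs) pCore_quotient
    (by omega) ρ hinj (hcond.imp_right fun hab S hS a ha b hb => ?_) (QuotientGroup.mk x)
    (MonoidHom.map_zpowers (QuotientGroup.mk' F) x ▸ hx.map _)
    (by rw [← QuotientGroup.mk_pow, hexp _ hx x (mem_zpowers x), QuotientGroup.mk_one])
    (hA x (m + 1) fun f hf => ?_)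
  · obtain ⟨T, hT⟩ := hS.exists_le_sylow
    obtain ⟨T', rfl⟩ := Sylow.mapSurjective_surjective (QuotientGroup.mk'_surjective F) 2 T
    obtain ⟨a', ha', rfl⟩ := hT ha
    obtain ⟨b', hb', rfl⟩ := hT hb
    rw [← map_mul, ← map_mul, hab _ T'.2 a' ha' b' hb']
  · rw [hexp _ hx x (mem_zpowers x), hexp (F ⊔ zpowers x) (IsPGroup.to_sup_of_normal_left hFp hx)
      (f * x) (mul_mem_sup hf (mem_zpowers x))]

/-- Powers commute modulo `O_p`. -/
theorem powers_commute_mod (hp2 : p ≠ 2) (h0 : Cfsg.pPrimeCore p Y = ⊥)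
    (hs : Cfsg.IsPSolvable p Y) (m : ℕ)
    (hexp : ∀ P : Subgroup Y, IsPGroup p P → ∀ y ∈ P, y ^ p ^ (m + 1) = 1)
    (P : Subgroup Y) (hP : IsPGroup p P) (x x' : Y) (hx : x ∈ P) (hx' : x' ∈ P) :
    x ^ p ^ m * x' ^ p ^ m * (x' ^ p ^ m * x ^ p ^ m)⁻¹ ∈ Cfsg.pCore p Y := by
  haveI : (Cfsg.pCore p Y).Normal := CfsgLib.Solvable.pCore_normal p
  obtain ⟨d, ρ, hinj, hA, -⟩ := exists_rep h0 hs
  set F := Cfsg.pCore p Y with hF
  have hFp : IsPGroup p F := CfsgLib.Solvable.isPGroup_pCore p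
  have h := powers_commute (e := m + 1) hp2
    (CfsgLib.PConstrained.isPSolvable_map _ (QuotientGroup.mk'_surjective F) hs) pCore_quotient
    (by omega) ρ hinj (P.map (QuotientGroup.mk' F)) (hP.map _)
    (by
      rintro _ ⟨y, hy, rfl⟩
      rw [← map_pow, hexp P hP y hy, map_one])
    (by
      rintro _ ⟨y, hy, rfl⟩
      refine hA y (m + 1) fun f hf => ?_
      rw [hexp P hP y hy, hexp (F ⊔ P) (IsPGroup.to_sup_of_normal_left hFp hP) (f * y)
        (mul_mem_sup hf hy)])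
    (x := QuotientGroup.mk x) (x' := QuotientGroup.mk x') ⟨x, hx, rfl⟩ ⟨x', hx', rfl⟩
  refine (QuotientGroup.eq_one_iff _).1 ?_
  simp only [Nat.add_sub_cancel] at h
  rw [QuotientGroup.mk_mul, QuotientGroup.mk_inv, QuotientGroup.mk_mul, QuotientGroup.mk_mul,
    QuotientGroup.mk_pow, QuotientGroup.mk_pow, h.eq, mul_inv_cancel]

/-- When powers commute they lie in `O_p`. -/
theorem pow_mem_of_commute (hp2 : p ≠ 2) (h0 : Cfsg.pPrimeCore p Y = ⊥)
    (hs : Cfsg.IsPSolvable p Y) (m : ℕ)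
    (hexp : ∀ P : Subgroup Y, IsPGroup p P → ∀ y ∈ P, y ^ p ^ (m + 1) = 1)
    (hcomm : ∀ P : Subgroup Y, IsPGroup p P → ∀ y ∈ P, ∀ y' ∈ P,
      Commute (y ^ p ^ m) (y' ^ p ^ m))
    (x : Y) (hx : IsPGroup p (zpowers x)) : x ^ p ^ m ∈ Cfsg.pCore p Y := by
  haveI : (Cfsg.pCore p Y).Normal := CfsgLib.Solvable.pCore_normal p
  obtain ⟨d, ρ, hinj, -, hB⟩ := exists_rep h0 hs
  set F := Cfsg.pCore p Y with hF
  have hFp : IsPGroup p F := CfsgLib.Solvable.isPGroup_pCore p
  refine (QuotientGroup.eq_one_iff _).1 ?_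
  rw [QuotientGroup.mk_pow]
  set x' : Y ⧸ F := QuotientGroup.mk x with hx'
  refine eq_one_of_centralizes
    (CfsgLib.PConstrained.isPSolvable_map _ (QuotientGroup.mk'_surjective F) hs) pCore_quotient
    (zpowers x') (MonoidHom.map_zpowers (QuotientGroup.mk' F) x ▸ hx.map _)
    (pow_mem (mem_zpowers x') _) fun q hq hqp Q hQ hxQ g hg => ?_
  haveI : Fact q.Prime := ⟨hq⟩
  by_contra hne
  have hdeg := hB x m fun f hf => hcomm (F ⊔ zpowers x) (IsPGroup.to_sup_of_normal_left hFp hx)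
    (f * x) (mul_mem_sup hf (mem_zpowers x)) x (mem_sup_right (mem_zpowers x))
  have hmv : CfsgLib.HallHigman.Moves ρ Q (x' ^ p ^ (m + 1 - 1)) := by
    refine ⟨g, hg, fun h1 => hne ?_⟩
    rw [← map_one ρ] at h1
    rw [Nat.add_sub_cancel] at h1
    exact (mul_inv_eq_iff_eq_mul.1 (mul_inv_eq_one.1 (hinj h1))).symm
  have hres := CfsgLib.HallHigman.hallHigmanB (K := AlgebraicClosure (ZMod p)) (p := p) (q := q)
    hqp.symm (m + 1) (by omega) _ _ ρ Q x' hQ (hxQ (mem_zpowers x'))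
    (by rw [hx', ← QuotientGroup.mk_pow, hexp _ hx x (mem_zpowers x), QuotientGroup.mk_one]) hmv
    (2 * p ^ m - 1) hdeg
  have hk0 : 1 ≤ p ^ m := Nat.one_le_pow m p hp.out.pos
  have hp3 : 3 ≤ p := by have := hp.out.two_le; omega
  have h3k : 3 * p ^ m ≤ p ^ (m + 1) := by
    rw [pow_succ, mul_comm 3]; exact Nat.mul_le_mul_left _ hp3
  rcases hres with h | ⟨n₀, j, h1, h2, -, -, h3, -⟩
  · omega
  · rw [Nat.mul_sub, ← pow_add, Nat.sub_add_cancel h2, mul_one] at h3
    have h4 : p ^ (m + 1 - n₀) ≤ p ^ m := Nat.pow_le_pow_right hp.out.pos (by omega)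
    omega

omit hp in
/-- Subgroups of a quotient of prime power order lift. -/
theorem exists_lift {q : ℕ} [Fact q.Prime] {G : Type u} [Group G] [Finite G] (N : Subgroup G)
    [N.Normal] {K : Subgroup (G ⧸ N)} (hK : IsPGroup q K) :
    ∃ S : Subgroup G, IsPGroup q S ∧ K ≤ S.map (QuotientGroup.mk' N) := by
  obtain ⟨S, hS⟩ := hK.exists_le_sylow
  obtain ⟨S', rfl⟩ := Sylow.mapSurjective_surjective (QuotientGroup.mk'_surjective N) q S
  exact ⟨S', S'.2, hS⟩

theorem exponent_quotient {G : Type u} [Group G] [Finite G] (N : Subgroup G) [N.Normal] {n : ℕ}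
    (h : ∀ P : Subgroup G, IsPGroup p P → ∀ y ∈ P, y ^ p ^ n = 1) :
    ∀ P : Subgroup (G ⧸ N), IsPGroup p P → ∀ y ∈ P, y ^ p ^ n = 1 := by
  intro P hP y hy
  obtain ⟨S, hS, hle⟩ := exists_lift N hP
  obtain ⟨y', hy', rfl⟩ := hle hy
  rw [← map_pow, h S hS y' hy', map_one]

open CfsgLib.FGSA

/-- A quotient by an odd term of the upper series has trivial `O_{p'}`. -/
theorem pPrimeCore_quotient_U {G : Type u} [Group G] [Finite G] {i : ℕ} (hi : Even i) :
    Cfsg.pPrimeCore p (G ⧸ PLen.U p G (i + 1)) = ⊥ := by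
  set U1 := PLen.U p G (i + 1) with hU1
  have hle : (Cfsg.pPrimeCore p (G ⧸ U1)).comap (QuotientGroup.mk' U1) ≤ U1 := by
    refine PLen.le_succ ((CfsgLib.Solvable.pPrimeCore_normal p).comap _) ?_
    have h1 : U1 ≤ (Cfsg.pPrimeCore p (G ⧸ U1)).comap (QuotientGroup.mk' U1) := by
      conv_lhs => rw [← QuotientGroup.ker_mk' U1]
      exact Subgroup.ker_le_comap _ _
    rw [← Subgroup.relIndex_mul_relIndex (PLen.U p G i) U1 _ (PLen.U_le_succ i) h1]
    refine PLen.Good.mul (PLen.good_factor i) ?_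
    have e := Subgroup.relIndex_ker ((Cfsg.pPrimeCore p (G ⧸ U1)).comap (QuotientGroup.mk' U1))
      (f := QuotientGroup.mk' U1)
    rw [QuotientGroup.ker_mk'] at e
    rw [e, Subgroup.map_comap_eq_self_of_surjective (QuotientGroup.mk'_surjective U1), PLen.Good,
      if_pos hi]
    exact CfsgLib.Solvable.coprime_card_pPrimeCore p
  rw [← map_comap_eq_self_of_surjective (QuotientGroup.mk'_surjective U1) (Cfsg.pPrimeCore p (G ⧸ U1)),
    Subgroup.map_eq_bot_iff, QuotientGroup.ker_mk']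
  exact hle

theorem mem_U_succ_of_odd {G : Type u} [Group G] {i : ℕ} (hi : ¬ Even i) {g : G}
    (h : QuotientGroup.mk' (PLen.U p G i) g ∈ Cfsg.pCore p (G ⧸ PLen.U p G i)) :
    g ∈ PLen.U p G (i + 1) := by
  show g ∈ (Cfsg.upperPSeries p G (i + 1)).1
  simp only [Cfsg.upperPSeries, if_neg hi, Subgroup.mem_comap]
  exact h

/-- The terms `2 a` of the upper series have p-length at most `a`. -/
theorem pLengthLE_U {G : Type u} [Group G] [Finite G] (a : ℕ) :
    Cfsg.PLengthLE p a (PLen.U p G (2 * a)) := by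
  have h := PLen.comap_subtype_le (p := p) (PLen.U p G (2 * a)) (2 * a)
  refine top_le_iff.1 (le_trans ?_ (PLen.U_mono (show 2 * a ≤ 2 * a + 1 by omega)))
  refine le_trans ?_ h
  intro g _
  exact g.2

/-- p-length zero. -/
theorem pLengthLE_of_exponent_zero {G : Type u} [Group G] [Finite G]
    (hexp : ∀ P : Subgroup G, IsPGroup p P → ∀ y ∈ P, y ^ p ^ 0 = 1) : Cfsg.PLengthLE p 0 G := by
  refine PLen.pLengthLE_zero_of_coprime ?_
  refine (hp.out.coprime_iff_not_dvd.2 fun hd => ?_).symm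
  obtain ⟨g, hg⟩ := exists_prime_orderOf_dvd_card' p hd
  have := hexp (zpowers g) (IsPGroup.of_card (n := 1) (by rw [Nat.card_zpowers, hg, pow_one])) g
    (mem_zpowers g)
  rw [pow_zero, pow_one] at this
  rw [this, orderOf_one] at hg
  exact hp.out.one_lt.ne hg

/-- Part (a). -/
theorem pLengthLE_of_not_exceptional (hp2 : p ≠ 2) (n : ℕ) : ∀ (G : Type u) [Group G] [Finite G],
    Cfsg.IsPSolvable p G →
    ((¬ ∃ k : ℕ, p = 2 ^ k + 1) ∨
      ∀ S : Subgroup G, IsPGroup 2 S → ∀ a ∈ S, ∀ b ∈ S, a * b = b * a) →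
    (∀ P : Subgroup G, IsPGroup p P → ∀ y ∈ P, y ^ p ^ n = 1) → Cfsg.PLengthLE p n G := by
  induction n with
  | zero => intro G _ _ _ _ hexp; exact pLengthLE_of_exponent_zero hexp
  | succ n ih =>
    intro G _ _ hs hcond hexp
    have hab : ∀ (N : Subgroup G) [N.Normal], (¬ ∃ k : ℕ, p = 2 ^ k + 1) ∨
        ∀ S : Subgroup (G ⧸ N), IsPGroup 2 S → ∀ a ∈ S, ∀ b ∈ S, a * b = b * a := fun N _ =>
      hcond.imp_right fun hab S hS a ha b hb => by
        obtain ⟨T, hT, hle⟩ := exists_lift N hS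
        obtain ⟨a', ha', rfl⟩ := hle ha
        obtain ⟨b', hb', rfl⟩ := hle hb
        rw [← map_mul, ← map_mul, hab T hT a' ha' b' hb']
    have key : ∀ P : Subgroup G, IsPGroup p P → ∀ g ∈ P, g ^ p ^ n ∈ PLen.U p G (1 + 1) := by
      intro P hP g hg
      refine mem_U_succ_of_odd (by decide) ?_
      rw [map_pow]
      exact pow_mem_of_not_exceptional hp2 (pPrimeCore_quotient_U (i := 0) (by decide))
        (CfsgLib.PConstrained.isPSolvable_map _ (QuotientGroup.mk'_surjective _) hs) (hab _) n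
        (exponent_quotient _ hexp) _
        (MonoidHom.map_zpowers (QuotientGroup.mk' (PLen.U p G 1)) g ▸
          (hP.to_le (zpowers_le.2 hg)).map _)
    have hQ : Cfsg.PLengthLE p n (G ⧸ PLen.U p G (1 + 1)) := by
      refine ih _ (CfsgLib.PConstrained.isPSolvable_map _ (QuotientGroup.mk'_surjective _) hs)
        (hab _) fun P hP y hy => ?_
      obtain ⟨S, hS, hle⟩ := exists_lift _ hP
      obtain ⟨y', hy', rfl⟩ := hle hy
      rw [← map_pow]
      exact (QuotientGroup.eq_one_iff _).2 (key S hS y' hy')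
    exact PLen.pLengthLE_mono (by omega)
      (PLen.pLengthLE_add (a := 1) _ (pLengthLE_U 1) hQ)

/-- Part (b). -/
theorem pLengthLE_two_mul (hp2 : p ≠ 2) (n : ℕ) : ∀ (G : Type u) [Group G] [Finite G],
    Cfsg.IsPSolvable p G →
    (∀ P : Subgroup G, IsPGroup p P → ∀ y ∈ P, y ^ p ^ n = 1) → Cfsg.PLengthLE p (2 * n) G := by
  induction n with
  | zero => intro G _ _ _ hexp; exact pLengthLE_of_exponent_zero hexp
  | succ n ih =>
    intro G _ _ hs hexp
    set U2 := PLen.U p G (1 + 1) with hU2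
    set U3 := PLen.U p G (2 + 1) with hU3
    have hcomm2 : ∀ P : Subgroup G, IsPGroup p P → ∀ y ∈ P, ∀ y' ∈ P,
        y ^ p ^ n * y' ^ p ^ n * (y' ^ p ^ n * y ^ p ^ n)⁻¹ ∈ U2 := by
      intro P hP y hy y' hy'
      refine mem_U_succ_of_odd (by decide) ?_
      simp only [map_mul, map_inv, map_pow]
      exact powers_commute_mod hp2 (pPrimeCore_quotient_U (i := 0) (by decide))
        (CfsgLib.PConstrained.isPSolvable_map _ (QuotientGroup.mk'_surjective _) hs) n
        (exponent_quotient _ hexp) (P.map _) (hP.map _) _ _ ⟨y, hy, rfl⟩ ⟨y', hy', rfl⟩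
    have hcomm3 : ∀ P : Subgroup (G ⧸ U3), IsPGroup p P → ∀ y ∈ P, ∀ y' ∈ P,
        Commute (y ^ p ^ n) (y' ^ p ^ n) := by
      intro P hP y hy y' hy'
      obtain ⟨S, hS, hle⟩ := exists_lift _ hP
      obtain ⟨a, ha, rfl⟩ := hle hy
      obtain ⟨b, hb, rfl⟩ := hle hy'
      rw [← map_pow, ← map_pow, commute_iff_eq, ← map_mul, ← map_mul, ← mul_inv_eq_one, ← map_inv,
        ← map_mul]
      exact (QuotientGroup.eq_one_iff _).2 (PLen.U_le_succ 2 (hcomm2 S hS a ha b hb))
    have key : ∀ P : Subgroup G, IsPGroup p P → ∀ g ∈ P, g ^ p ^ n ∈ PLen.U p G (3 + 1) := by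
      intro P hP g hg
      refine mem_U_succ_of_odd (by decide) ?_
      rw [map_pow]
      exact pow_mem_of_commute hp2 (pPrimeCore_quotient_U (i := 2) (by decide))
        (CfsgLib.PConstrained.isPSolvable_map _ (QuotientGroup.mk'_surjective _) hs) n
        (exponent_quotient _ hexp) hcomm3 _
        (MonoidHom.map_zpowers (QuotientGroup.mk' U3) g ▸ (hP.to_le (zpowers_le.2 hg)).map _)
    have hQ : Cfsg.PLengthLE p (2 * n) (G ⧸ PLen.U p G (3 + 1)) := by
      refine ih _ (CfsgLib.PConstrained.isPSolvable_map _ (QuotientGroup.mk'_surjective _) hs)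
        fun P hP y hy => ?_
      obtain ⟨S, hS, hle⟩ := exists_lift _ hP
      obtain ⟨y', hy', rfl⟩ := hle hy
      rw [← map_pow]
      exact (QuotientGroup.eq_one_iff _).2 (key S hS y' hy')
    exact PLen.pLengthLE_mono (by omega)
      (PLen.pLengthLE_add (a := 2) _ (pLengthLE_U 2) hQ)

end CfsgLib.HHExponent
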