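import Cfsg.Agent.HallHigman.Exponent.Count
import Cfsg.Agent.FGSA.AbelianSylowLength

/-!
In a linear group in which every `p`-element `g` has `(g - 1) ^ (p ^ e - 1) = 0`, the `p ^ (e - 1)`-th
powers of the elements of a `p`-subgroup commute.
-/

set_option autoImplicit false
set_option linter.style.haveILetI false
set_option linter.unusedSectionVars false

namespace CfsgLib.HHExponent

open Subgroup
open CfsgLib.HallHigman (weight mem_weight rep_mul rep_inv_self rep_self_inv subRep subRep_apply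
  subRep_sub_one_pow)

universe u v w

variable {K : Type w} [Field K] {G : Type u} [Group G] {V : Type v} [AddCommGroup V] [Module K V]
variable {p : ℕ} [hp : Fact p.Prime]

theorem Exc.of_comp {U : Type u} [CommGroup U] {T T' : Type u} [Group T] [Group T']
    {α : T' →* MulAut U} (f : T →* T') (hf : Function.Injective f) {x z : T}
    (h : Exc p α (f x) (f z)) : Exc p (α.comp f) x z := by
  rcases h with h | ⟨j, k, h1, h2, h3, h4⟩
  · exact Or.inl h
  · exact Or.inr ⟨j, k, hf (by rw [h1, map_pow]), h2, h3, h4⟩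

theorem odd_prime_of_ne (hp2 : p ≠ 2) : (p : ℕ).Coprime 2 :=
  (Nat.coprime_primes hp.out Nat.prime_two).2 hp2

/-- A commutator fixed by the conjugating element is trivial, for coprime orders. -/
theorem eq_one_of_fixed_comm {c g : G} {i N : ℕ} (hN : N.Coprime p) (hc : c ^ p ^ i = 1)
    (hw : (c * g * c⁻¹ * g⁻¹) ^ N = 1) (hcw : c * (c * g * c⁻¹ * g⁻¹) = c * g * c⁻¹ * g⁻¹ * c) :
    c * g * c⁻¹ * g⁻¹ = 1 := by
  set w := c * g * c⁻¹ * g⁻¹ with hwdef
  have hl : ∀ l : ℕ, c ^ l * g * (c ^ l)⁻¹ = w ^ l * g := by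
    intro l
    induction l with
    | zero => simp
    | succ l ih =>
      calc c ^ (l + 1) * g * (c ^ (l + 1))⁻¹ = c * (c ^ l * g * (c ^ l)⁻¹) * c⁻¹ := by
            rw [pow_succ']; group
        _ = (c * w ^ l) * (g * c⁻¹) := by rw [ih]; group
        _ = (w ^ l * c) * (g * c⁻¹) := by rw [((show Commute c w from hcw).pow_right l).eq]
        _ = w ^ l * w * g := by rw [hwdef]; group
        _ = w ^ (l + 1) * g := by rw [pow_succ]
  have h1 := hl (p ^ i)
  rw [hc, one_mul, inv_one, mul_one, eq_comm, mul_eq_right] at h1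
  have := pow_gcd_eq_one.2 ⟨h1, hw⟩
  rwa [(hN.symm.pow_left i).gcd_eq_one, pow_one] at this

/-- A non-trivially acting element of order prime to `p` has a weight off `1`. -/
theorem exists_weight_ne [IsAlgClosed K] [CharP K p] [FiniteDimensional K V]
    (ρ : Representation K G V) (Z : Subgroup G) (hZc : ∀ a ∈ Z, ∀ b ∈ Z, a * b = b * a) (d : Z)
    {N : ℕ} (hN : N.Coprime p) (hd : (d : G) ^ N = 1) (hne : ρ (d : G) ≠ 1) :
    ∃ l : Z → K, weight (fun z : Z => ρ (z : G)) l ≠ ⊥ ∧ l d ≠ 1 := by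
  set D := ρ (d : G) with hD
  let W : Submodule K V := LinearMap.range (D - 1)
  have hW : ∀ z : Z, ∀ w ∈ W, ρ (z : G) w ∈ W := by
    rintro z _ ⟨v, rfl⟩
    refine ⟨ρ (z : G) v, ?_⟩
    rw [LinearMap.sub_apply, LinearMap.sub_apply, map_sub, Module.End.one_apply,
      Module.End.one_apply, hD, ← rep_mul, ← rep_mul, hZc d d.2 z z.2]
  haveI : Nontrivial W := Submodule.nontrivial_iff_ne_bot.2 fun h => hne
    (sub_eq_zero.1 (LinearMap.range_eq_bot.1 h))
  let F : Z → Module.End K W := fun z => (ρ (z : G)).restrict (hW z)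
  obtain ⟨l, hl⟩ := CfsgLib.HallHigman.exists_weight F fun a b => LinearMap.ext fun w =>
    Subtype.ext (by
      show ρ (a : G) (ρ (b : G) (w : V)) = ρ (b : G) (ρ (a : G) (w : V))
      rw [← rep_mul, ← rep_mul, hZc a a.2 b b.2])
  obtain ⟨w, hw, hw0⟩ := (weight F l).exists_mem_ne_zero_of_ne_bot hl
  have hwV : ∀ z : Z, ρ (z : G) (w : V) = l z • (w : V) := fun z =>
    congrArg Subtype.val (mem_weight.1 hw z)
  refine ⟨l, fun h => hw0 ?_, fun h1 => hw0 ?_⟩
  · have : (w : V) ∈ weight (fun z : Z => ρ (z : G)) l := mem_weight.2 hwV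
    rw [h, Submodule.mem_bot] at this
    exact Subtype.ext this
  · obtain ⟨v, hv⟩ := w.2
    let S : Module.End K V := ∑ i ∈ Finset.range N, D ^ i
    have hS0 : S (w : V) = 0 := by
      rw [← hv, ← Module.End.mul_apply, geom_sum_mul, hD, ← map_pow, hd, map_one, sub_self,
        LinearMap.zero_apply]
    have hfix : D (w : V) = w := by rw [hD, hwV d, h1, one_smul]
    have hi : ∀ i, (D ^ i) (w : V) = w := fun i => by
      induction i with
      | zero => rfl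
      | succ i ih => rw [pow_succ', Module.End.mul_apply, ih, hfix]
    have hS1 : S (w : V) = (N : K) • (w : V) := by
      simp only [S, LinearMap.sum_apply, hi, Finset.sum_const, Finset.card_range, Nat.cast_smul_eq_nsmul]
    rw [hS1] at hS0
    refine Subtype.ext ((smul_eq_zero.1 hS0).resolve_left fun h0 => ?_)
    have hd' := (CharP.cast_eq_zero_iff K p N).1 h0
    exact hp.out.ne_one (Nat.eq_one_of_dvd_coprimes hN hd' dvd_rfl)

/-- An outcome of the count as an exceptional pair. -/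
theorem outcome_exc [Finite G] (ρ : Representation K G V) (Q : Subgroup G) (hT : Twisted ρ Q)
    (P : Subgroup G) (x : G) (hxP : x ∈ P) (hxQ : x ∈ normalizer (Q : Set G)) (n : ℕ)
    (h : Outcome p ρ Q x n) :
    letI : CommGroup (Q ⧸ (rad ρ Q).subgroupOf Q) :=
      { (inferInstance : Group (Q ⧸ (rad ρ Q).subgroupOf Q)) with mul_comm := hT.u_comm }
    ∃ x₁ : normalizer (Q : Set G), (x₁ : G) ∈ P ∧ ∃ j : ℕ,
      ((x₁ ^ p ^ j : normalizer (Q : Set G)) : G) = x ^ p ^ (n - 1) ∧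
      Exc p (uAct ρ Q) x₁ (x₁ ^ p ^ j) := by
  letI : CommGroup (Q ⧸ (rad ρ Q).subgroupOf Q) :=
    { (inferInstance : Group (Q ⧸ (rad ρ Q).subgroupOf Q)) with mul_comm := hT.u_comm }
  rcases h with h | ⟨i, j, k, hn, hfix, hk, hd⟩
  · refine ⟨⟨_, pow_mem hxQ (p ^ (n - 1))⟩, pow_mem hxP _, 0, by simp, Or.inl ?_⟩
    rw [pow_zero, pow_one]
    refine MulEquiv.ext fun u => ?_
    induction u using QuotientGroup.induction_on with
    | H g => exact (uAct_fix_iff ρ Q _ g).2 (h g g.2)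
  · have hz : (((⟨x ^ p ^ i, pow_mem hxQ _⟩ : normalizer (Q : Set G)) ^ p ^ j :
        normalizer (Q : Set G)) : G) = x ^ p ^ (n - 1) := by
      rw [SubgroupClass.coe_pow, ← pow_mul, ← pow_add, show i + j = n - 1 by omega]
    refine ⟨⟨x ^ p ^ i, pow_mem hxQ _⟩, pow_mem hxP _, j, hz, Or.inr ⟨j, k, rfl, ?_, hk, ?_⟩⟩
    · intro u
      induction u using QuotientGroup.induction_on with
      | H g =>
        rw [uAct_fix_iff, uAct_fix_iff, hz]
        exact hfix g g.2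
    · set w := (⟨x ^ p ^ i, pow_mem hxQ _⟩ : normalizer (Q : Set G)) ^ p ^ j with hw
      set S := fixU (uAct ρ Q w) with hS
      have h1 : Nat.card {g : Q // x ^ p ^ (n - 1) * g * (x ^ p ^ (n - 1))⁻¹ * (g : G)⁻¹ ∈ rad ρ Q} =
          Nat.card ((rad ρ Q).subgroupOf Q) * Nat.card S := by
        have h2 := Nat.card_congr (QuotientGroup.preimageMkEquivSubgroupProdSet
          ((rad ρ Q).subgroupOf Q) (S : Set (Q ⧸ (rad ρ Q).subgroupOf Q)))
        rw [Nat.card_prod] at h2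
        refine Eq.trans (Nat.card_congr (Equiv.subtypeEquivRight fun g => ?_)) h2
        rw [← hz, ← uAct_fix_iff]
        rfl
      rw [h1, Subgroup.card_eq_card_quotient_mul_card_subgroup ((rad ρ Q).subgroupOf Q),
        mul_comm, ← mul_assoc, mul_comm ((2 ^ k) ^ 2), mul_assoc] at hd
      exact Nat.dvd_of_mul_dvd_mul_left Nat.card_pos hd

variable [IsAlgClosed K] [CharP K p] [FiniteDimensional K V]

/-- On a `2`-group. -/
theorem commute_on_two_group [Finite G] (hp2 : p ≠ 2) {e : ℕ} (he : 1 ≤ e)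
    (ρ : Representation K G V) (hinj : Function.Injective ρ) (P : Subgroup G) (hP : IsPGroup p P)
    (hexp : ∀ g ∈ P, g ^ p ^ e = 1) (hdeg : ∀ g ∈ P, (ρ g - 1) ^ (p ^ e - 1) = 0)
    {x x' : G} (hx : x ∈ P) (hx' : x' ∈ P) :
    ∀ (N : ℕ) (R : Subgroup G), Nat.card R = N → IsPGroup 2 R → P ≤ normalizer (R : Set G) →
      ∀ r ∈ R, Commute (x ^ p ^ (e - 1) * x' ^ p ^ (e - 1) * (x ^ p ^ (e - 1))⁻¹ *
        (x' ^ p ^ (e - 1))⁻¹) r := by
  intro N
  induction N using Nat.strong_induction_on with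
  | _ N IH =>
  intro R hN hR hPR
  classical
  set z := x ^ p ^ (e - 1) with hz
  set z' := x' ^ p ^ (e - 1) with hz'
  set c := z * z' * z⁻¹ * z'⁻¹ with hc
  have hzP : z ∈ P := pow_mem hx _
  have hz'P : z' ∈ P := pow_mem hx' _
  have hcP : c ∈ P := mul_mem (mul_mem (mul_mem hzP hz'P) (inv_mem hzP)) (inv_mem hz'P)
  have hconj : ∀ t ∈ P, ∀ r ∈ R, t * r * t⁻¹ ∈ R := fun t ht r hr =>
    (mem_normalizer_iff.1 (hPR ht) r).1 hr
  rcases eq_or_ne R ⊥ with rfl | hR0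
  · intro r hr
    rw [mem_bot.1 hr]
    exact Commute.one_right _
  haveI : Nontrivial R := (Subgroup.nontrivial_iff_ne_bot R).2 hR0
  -- proper invariant subgroups
  have hprop : ∀ R' < R, (∀ t ∈ P, ∀ r ∈ R', t * r * t⁻¹ ∈ R') → ∀ r ∈ R', ∀ t ∈ P,
      Commute (t * c * t⁻¹) r := by
    intro R' hlt hinv r hr t ht
    have hle : P ≤ normalizer (R' : Set G) := fun s hs => mem_normalizer_iff.2 fun h =>
      ⟨hinv s hs h, fun h' => by simpa [mul_assoc] using hinv s⁻¹ (inv_mem hs) _ h'⟩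
    have h1 : Commute c (t⁻¹ * r * t) := by
      refine IH (Nat.card R') (hN ▸ CfsgLib.Solvable.card_lt_of_lt hlt) R' rfl (hR.to_le hlt.le) hle _ ?_
      simpa using hinv t⁻¹ (inv_mem ht) r hr
    have h2 : t * c * t⁻¹ * r = r * (t * c * t⁻¹) := by
      calc t * c * t⁻¹ * r = t * (c * (t⁻¹ * r * t)) * t⁻¹ := by group
        _ = t * ((t⁻¹ * r * t) * c) * t⁻¹ := by rw [h1.eq]
        _ = _ := by group
    exact h2
  have hodd : ∀ g ∈ R, ∃ m, g ^ 2 ^ m = 1 := fun g hg => by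
    obtain ⟨m, hm⟩ := hR ⟨g, hg⟩
    exact ⟨m, congrArg Subtype.val hm⟩
  have hcop : ∀ m : ℕ, (2 ^ m).Coprime p := fun m => (odd_prime_of_ne hp2).symm.pow_left m
  -- the Frattini subgroup
  set Φ := (frattini R).map R.subtype with hΦdef
  have hΦlt : Φ < R := by
    refine lt_of_le_of_ne (map_subtype_le _) fun h => ?_
    have h1 : frattini R = ⊤ := map_injective R.subtype_injective
      (h.trans (by rw [← MonoidHom.range_eq_map, range_subtype]))
    obtain ⟨M, hM⟩ := (IsCoatomic.eq_top_or_exists_le_coatom (⊥ : Subgroup R)).resolve_left bot_ne_top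
    exact hM.1.1 (top_le_iff.1 (h1 ▸ frattini_le_coatom hM.1))
  have hΦinv : ∀ t ∈ P, ∀ r ∈ Φ, t * r * t⁻¹ ∈ Φ := by
    rintro t ht _ ⟨⟨r, hrR⟩, hr, rfl⟩
    let φ : R ≃* R := conjQ R ⟨t, hPR ht⟩
    refine ⟨φ ⟨r, hrR⟩, ?_, rfl⟩
    have h1 := (Subgroup.characteristic_iff_le_comap.1
      (inferInstance : (frattini R).Characteristic)) φ hr
    exact h1
  obtain ⟨hcomF, hpowF⟩ := CfsgLib.PGroupBasic.commutator_pow_le_frattini hR
  -- `R` is generated by commutators with the conjugates of `c`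
  set S := closure {w | ∃ g ∈ R, ∃ t ∈ P, w = g * (t * c * t⁻¹) * g⁻¹ * (t * c * t⁻¹)⁻¹} with hSdef
  have hSR : S ≤ R := by
    rw [closure_le]
    rintro _ ⟨g, hg, t, ht, rfl⟩
    rw [SetLike.mem_coe, show g * (t * c * t⁻¹) * g⁻¹ * (t * c * t⁻¹)⁻¹ =
      g * ((t * c * t⁻¹) * g⁻¹ * (t * c * t⁻¹)⁻¹) by group]
    exact mul_mem hg (hconj _ (mul_mem (mul_mem ht hcP) (inv_mem ht)) _ (inv_mem hg))
  have hfin : ∀ g ∈ R, c * (c * g * c⁻¹ * g⁻¹) = c * g * c⁻¹ * g⁻¹ * c →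
      Commute c g := by
    intro g hg hcw
    obtain ⟨i, hi⟩ := hP ⟨c, hcP⟩
    obtain ⟨m, hm⟩ := hodd _ (mul_mem (hconj c hcP g hg) (inv_mem hg))
    exact mul_inv_eq_iff_eq_mul.1 (mul_inv_eq_one.1
      (eq_one_of_fixed_comm (hcop m) (congrArg Subtype.val hi : c ^ p ^ i = 1) hm hcw))
  by_cases hSlt : S ≠ R
  · intro g hg
    refine hfin g hg ?_
    have hinvS : ∀ s ∈ P, ∀ r ∈ S, s * r * s⁻¹ ∈ S := by
      intro s hs r hr
      induction hr using closure_induction with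
      | mem w hw =>
        obtain ⟨g, hg, t, ht, rfl⟩ := hw
        refine subset_closure ⟨s * g * s⁻¹, hconj s hs g hg, s * t, mul_mem hs ht, ?_⟩
        group
      | one => simp
      | mul a b _ _ ha hb => rw [← conj_mul]; exact mul_mem ha hb
      | inv a _ ha => rw [← conj_inv]; exact inv_mem ha
    have hw : c * g * c⁻¹ * g⁻¹ ∈ S := by
      have : g * (1 * c * 1⁻¹) * g⁻¹ * (1 * c * 1⁻¹)⁻¹ ∈ S :=
        subset_closure ⟨g, hg, 1, one_mem P, rfl⟩
      simpa [mul_assoc] using inv_mem this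
    simpa using (hprop S (lt_of_le_of_ne hSR hSlt) hinvS _ hw 1 (one_mem P)).eq
  rw [ne_eq, not_not] at hSlt
  have hΦc : ∀ f ∈ Φ, ∀ g ∈ R, g * f = f * g := by
    intro f hf g hg
    have hle : S ≤ centralizer {f} := by
      rw [closure_le]
      rintro _ ⟨k, hk, t, ht, rfl⟩
      rw [SetLike.mem_coe, mem_centralizer_singleton_iff]
      have h1 := hprop Φ hΦlt hΦinv f hf t ht
      have hkf : k⁻¹ * f * k ∈ Φ := by
        obtain ⟨f', hf', rfl⟩ := hf
        refine ⟨⟨k, hk⟩⁻¹ * f' * ⟨k, hk⟩, ?_, rfl⟩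
        simpa using (inferInstance : (frattini R).Normal).conj_mem f' hf' (⟨k, hk⟩⁻¹)
      have h2 := hprop Φ hΦlt hΦinv _ hkf t ht
      set d := t * c * t⁻¹
      have h3 : Commute (k * d * k⁻¹) f := by
        calc k * d * k⁻¹ * f = k * (d * (k⁻¹ * f * k)) * k⁻¹ := by group
          _ = k * ((k⁻¹ * f * k) * d) * k⁻¹ := by rw [h2.eq]
          _ = f * (k * d * k⁻¹) := by group
      exact (h3.mul_left h1.inv_left).eq
    exact mem_centralizer_singleton_iff.1 (hle (hSlt.symm ▸ hg))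
  -- the centre
  set Z := R ⊓ centralizer (R : Set G) with hZdef
  have hΦZ : ∀ f ∈ Φ, f ∈ Z := fun f hf =>
    ⟨hΦlt.le hf, mem_centralizer_iff.2 fun g hg => hΦc f hf g hg⟩
  have hcomZ : ∀ g ∈ R, ∀ h ∈ R, g * h * g⁻¹ * h⁻¹ ∈ Z := fun g hg h hh => hΦZ _
    ⟨⟨g, hg⟩ * ⟨h, hh⟩ * ⟨g, hg⟩⁻¹ * ⟨h, hh⟩⁻¹, hcomF (by
      rw [_root_.commutator_def, ← commutatorElement_def]
      exact commutator_mem_commutator (mem_top _) (mem_top _)), rfl⟩
  have hsqZ : ∀ g ∈ R, g * g ∈ Z := fun g hg =>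
    hΦZ _ ⟨(⟨g, hg⟩ : R) ^ 2, hpowF _, by simp [pow_two]⟩
  have hZc : ∀ a ∈ Z, ∀ b ∈ Z, a * b = b * a := fun a ha b hb =>
    mem_centralizer_iff.1 hb.2 a ha.1
  have hZn : ∀ t ∈ P, t ∈ normalizer (Z : Set G) := fun t ht => by
    have hin : ∀ s ∈ P, ∀ r ∈ Z, s * r * s⁻¹ ∈ Z := fun s hs r hr =>
      ⟨hconj s hs r hr.1, mem_centralizer_iff.2 fun k hk => by
        have h1 := mem_centralizer_iff.1 hr.2 (s⁻¹ * k * s) (by
          simpa using hconj s⁻¹ (inv_mem hs) k hk)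
        calc k * (s * r * s⁻¹) = s * ((s⁻¹ * k * s) * r) * s⁻¹ := by group
          _ = s * (r * (s⁻¹ * k * s)) * s⁻¹ := by rw [h1]
          _ = _ := by group⟩
    exact mem_normalizer_iff.2 fun h =>
      ⟨hin t ht h, fun h' => by simpa [mul_assoc] using hin t⁻¹ (inv_mem ht) _ h'⟩
  -- one weight
  let stab : (Z → K) → Subgroup G := fun l =>
    { carrier := {g | g ∈ normalizer (R : Set G) ∧ ∀ w,
          ρ g w ∈ weight (fun a : Z => ρ (a : G)) l ↔ w ∈ weight (fun a : Z => ρ (a : G)) l}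
      one_mem' := ⟨one_mem _, fun w => by simp⟩
      mul_mem' := fun {g h} hg hh => ⟨mul_mem hg.1 hh.1, fun w => by
        rw [rep_mul]; exact (hg.2 _).trans (hh.2 w)⟩
      inv_mem' := fun {g} hg => ⟨inv_mem hg.1, fun w => by
        rw [← hg.2 (ρ g⁻¹ w), rep_self_inv]⟩ }
  have hloc : ∀ (l : Z → K), weight (fun a : Z => ρ (a : G)) l ≠ ⊥ → ∀ t ∈ P,
      ∃ a < e, t ^ p ^ a ∈ stab l ∧
        ∀ w ∈ weight (fun z : Z => ρ (z : G)) l,
          ((ρ (t ^ p ^ a) - 1) ^ (p ^ (e - a) - 1)) w = 0 := by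
    intro l hl t ht
    obtain ⟨a, hae, hfix, hkill⟩ := block p ρ Z (fun a ha b hb => by
      rw [← map_mul, ← map_mul, hZc a ha b hb]) t (hZn t ht) e (hexp t ht) l hl _ (hdeg t ht)
      (Nat.sub_lt (pow_pos hp.out.pos e) Nat.one_pos)
    refine ⟨a, hae, ⟨hPR (pow_mem ht _), fun w => ?_⟩, fun w hw => ?_⟩
    · set W := weight (fun a : Z => ρ (a : G)) l
      have hg : ∀ w ∈ W, ρ (t ^ p ^ a) w ∈ W := fun w hw => mem_weight.2 fun z => by
        have hzm : (t ^ p ^ a)⁻¹ * z * t ^ p ^ a ∈ Z :=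
          (mem_normalizer_iff''.1 (hZn _ (pow_mem ht _)) z).1 z.2
        rw [← map_smul, ← hfix z hzm, ← mem_weight.1 hw ⟨_, hzm⟩, ← rep_mul, ← rep_mul]
        congr 2
        group
      refine ⟨fun hw => ?_, hg w⟩
      let g' : W →ₗ[K] W := (ρ (t ^ p ^ a)).restrict hg
      have hginj : Function.Injective g' := fun u u' h => Subtype.ext (by
        rw [← rep_inv_self ρ (t ^ p ^ a) (u : V), ← rep_inv_self ρ (t ^ p ^ a) (u' : V)]
        exact congrArg (ρ (t ^ p ^ a)⁻¹) (congrArg Subtype.val h))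
      obtain ⟨u, hu⟩ := LinearMap.injective_iff_surjective.1 hginj ⟨_, hw⟩
      have hu' : ρ (t ^ p ^ a) (u : V) = ρ (t ^ p ^ a) w := congrArg Subtype.val hu
      rw [← rep_inv_self ρ (t ^ p ^ a) w, ← hu', rep_inv_self]
      exact u.2
    · have hle : (p ^ e - 1) / p ^ a ≤ p ^ (e - a) - 1 := by
        have h1 : (p ^ e - 1) / p ^ a < p ^ (e - a) := by
          rw [Nat.div_lt_iff_lt_mul (pow_pos hp.out.pos a), ← pow_add, Nat.sub_add_cancel hae.le]
          exact Nat.sub_lt (pow_pos hp.out.pos e) Nat.one_pos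
        omega
      obtain ⟨r, hr⟩ := Nat.exists_eq_add_of_le hle
      rw [hr, add_comm, pow_add, Module.End.mul_apply, hkill w hw, map_zero]
  have hzfix : ∀ t ∈ P, ∀ d ∈ Z, Commute (t ^ p ^ (e - 1)) d := by
    intro t ht d hd
    set s := t ^ p ^ (e - 1) with hs
    have hsP : s ∈ P := pow_mem ht _
    have hm : s⁻¹ * d * s ∈ Z := (mem_normalizer_iff''.1 (hZn s hsP) d).1 hd
    by_contra hne
    have hu : s⁻¹ * d * s * d⁻¹ ∈ Z := mul_mem hm (inv_mem hd)
    obtain ⟨m, hm'⟩ := hodd _ hu.1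
    obtain ⟨l, hl, hlu⟩ := exists_weight_ne ρ Z hZc ⟨_, hu⟩ (hcop m) hm' fun h => hne (by
      rw [← map_one ρ] at h
      have h2 := hinj h
      rw [mul_inv_eq_one] at h2
      calc s * d = s * (s⁻¹ * d * s) := by rw [h2]
        _ = d * s := by group)
    obtain ⟨a, hae, hmem, -⟩ := hloc l hl t ht
    have hst : s ∈ stab l := by
      rw [hs, show p ^ (e - 1) = p ^ a * p ^ (e - 1 - a) by rw [← pow_add]; congr 1; omega, pow_mul]
      exact pow_mem hmem _
    obtain ⟨w, hw, hw0⟩ := (weight (fun a : Z => ρ (a : G)) l).exists_mem_ne_zero_of_ne_bot hl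
    have h3 : ρ (s⁻¹ * d * s) w = ρ d w := by
      rw [rep_mul, rep_mul, mem_weight.1 ((hst.2 w).2 hw) ⟨d, hd⟩, map_smul, rep_inv_self,
        mem_weight.1 hw ⟨d, hd⟩]
    have h4 : ρ (s⁻¹ * d * s * d⁻¹) w = w := by
      rw [show s⁻¹ * d * s * d⁻¹ = d⁻¹ * (s⁻¹ * d * s) by
        rw [hZc _ hm _ (inv_mem hd)], rep_mul, h3, rep_inv_self]
    have h5 := mem_weight.1 hw ⟨_, hu⟩
    have h6 : (l ⟨_, hu⟩ - 1) • w = 0 := by rw [sub_smul, one_smul, ← h5, h4, sub_self]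
    exact hlu (sub_eq_zero.1 ((smul_eq_zero.1 h6).resolve_right hw0))
  intro g hg
  refine hfin g hg ?_
  set w₀ := c * g * c⁻¹ * g⁻¹ with hw₀
  have hw₀R : w₀ ∈ R := mul_mem (hconj c hcP g hg) (inv_mem hg)
  suffices hcent : ∀ h ∈ R, w₀ * h * w₀⁻¹ * h⁻¹ = 1 by
    have hwZ : w₀ ∈ Z := ⟨hw₀R, mem_centralizer_iff.2 fun h hh =>
      (mul_inv_eq_iff_eq_mul.1 (mul_inv_eq_one.1 (hcent h hh))).symm⟩
    have h1 := hzfix x hx w₀ hwZ
    have h2 := hzfix x' hx' w₀ hwZ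
    exact (((h1.mul_left h2).mul_left h1.inv_left).mul_left h2.inv_left).eq
  intro h hh
  by_contra hne
  set d := w₀ * h * w₀⁻¹ * h⁻¹ with hd
  have hdZ : d ∈ Z := hcomZ _ hw₀R _ hh
  obtain ⟨m, hm⟩ := hodd _ hdZ.1
  obtain ⟨l, hl, hld⟩ := exists_weight_ne ρ Z hZc ⟨d, hdZ⟩ (hcop m) hm
    fun h1 => hne (hinj (h1.trans (map_one ρ).symm))
  set W := weight (fun a : Z => ρ (a : G)) l with hWdef
  set M := stab l with hMdef
  have hRM : R ≤ M := fun r hr => ⟨Subgroup.le_normalizer hr, fun w => by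
    have key : ∀ r ∈ R, ∀ w ∈ W, ρ r w ∈ W := fun r hr w hw => mem_weight.2 fun a => by
      rw [← rep_mul, ← mem_centralizer_iff.1 a.2.2 r hr, rep_mul, mem_weight.1 hw a, map_smul]
    exact ⟨fun hw => by simpa [rep_inv_self] using key r⁻¹ (inv_mem hr) _ hw, key r hr w⟩⟩
  have hMW : ∀ t ∈ M, ∀ w ∈ W, ρ t w ∈ W := fun t ht w hw => (ht.2 w).2 hw
  haveI : Nontrivial W := Submodule.nontrivial_iff_ne_bot.2 hl
  let ρ' := subRep ρ M W hMW
  let R' := R.subgroupOf M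
  have hT : Twisted ρ' R' := by
    refine ⟨fun a ha b hb => ⟨l ⟨_, hcomZ a ha b hb⟩, LinearMap.ext fun w => Subtype.ext ?_⟩,
      fun a ha => ⟨mul_mem ha ha, fun b hb => LinearMap.ext fun w => Subtype.ext ?_⟩⟩
    · show ρ (a : G) (ρ (b : G) (w : V)) = l ⟨_, hcomZ a ha b hb⟩ • ρ (b : G) (ρ (a : G) (w : V))
      have hmem : ρ (b : G) (ρ (a : G) (w : V)) ∈ W :=
        hMW b b.2 _ (hMW a a.2 w w.2)
      rw [← mem_weight.1 hmem ⟨_, hcomZ a ha b hb⟩, ← rep_mul, ← rep_mul, ← rep_mul]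
      congr 2
      group
    · show ρ ((a * a : M) : G) (ρ (b : G) (w : V)) = ρ (b : G) (ρ ((a * a : M) : G) (w : V))
      rw [← rep_mul, ← rep_mul]
      congr 2
      exact (mem_centralizer_iff.1 (hsqZ a ha).2 b hb).symm
  -- the two exceptional elements
  have hpick : ∀ t ∈ P, t ^ p ^ (e - 1) ∈ M →
      letI : CommGroup (R' ⧸ (rad ρ' R').subgroupOf R') :=
        { (inferInstance : Group (R' ⧸ (rad ρ' R').subgroupOf R')) with mul_comm := hT.u_comm }
      ∃ t₁ : normalizer (R' : Set M), (t₁ : M) ∈ P.subgroupOf M ∧ ∃ j : ℕ,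
        (((t₁ ^ p ^ j : normalizer (R' : Set M)) : M) : G) = t ^ p ^ (e - 1) ∧
        Exc p (uAct ρ' R') t₁ (t₁ ^ p ^ j) := by
    intro t ht _
    obtain ⟨a, hae, hmem, hkill⟩ := hloc l hl t ht
    let t₀ : M := ⟨t ^ p ^ a, hmem⟩
    have hn : t₀ ∈ normalizer (R' : Set M) := mem_normalizer_iff.2 fun k =>
      mem_normalizer_iff.1 hmem.1 (k : G)
    have hcnt := count p hp2 (e - a) (by omega) M W ρ' R' hR.comap_subtype hT t₀ hn
      (Subtype.ext (by
        show (t ^ p ^ a) ^ p ^ (e - a) = 1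
        rw [← pow_mul, ← pow_add, Nat.add_sub_cancel' hae.le, hexp t ht]))
      (LinearMap.ext fun w => Subtype.ext (by
        rw [subRep_sub_one_pow]
        exact hkill w w.2))
    obtain ⟨t₁, ht₁, j, hj, hexc⟩ := outcome_exc ρ' R' hT (P.subgroupOf M) t₀
      (show (t₀ : G) ∈ P from pow_mem ht _) hn _ hcnt
    refine ⟨t₁, ht₁, j, ?_, hexc⟩
    rw [hj, SubgroupClass.coe_pow]
    show (t ^ p ^ a) ^ p ^ (e - a - 1) = _
    rw [← pow_mul, ← pow_add, show a + (e - a - 1) = e - 1 by omega]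
  have hstab : ∀ t ∈ P, t ^ p ^ (e - 1) ∈ M := fun t ht => by
    obtain ⟨a, hae, hmem, -⟩ := hloc l hl t ht
    rw [show p ^ (e - 1) = p ^ a * p ^ (e - 1 - a) by rw [← pow_add]; congr 1; omega, pow_mul]
    exact pow_mem hmem _
  letI : CommGroup (R' ⧸ (rad ρ' R').subgroupOf R') :=
    { (inferInstance : Group (R' ⧸ (rad ρ' R').subgroupOf R')) with mul_comm := hT.u_comm }
  obtain ⟨t₁, ht₁, j, hj, hexc⟩ := hpick x hx (hstab x hx)
  obtain ⟨t₂, ht₂, j', hj', hexc'⟩ := hpick x' hx' (hstab x' hx')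
  let T : Subgroup (normalizer (R' : Set M)) := closure {t₁, t₂}
  have hTP : T ≤ (P.subgroupOf M).subgroupOf (normalizer (R' : Set M)) := by
    rw [closure_le]
    rintro t (rfl | rfl)
    · exact mem_subgroupOf.2 ht₁
    · exact mem_subgroupOf.2 ht₂
  have hTp : IsPGroup p T := ((hP.comap_subtype).comap_subtype).to_le hTP
  let u₁ : T := ⟨t₁, subset_closure (Set.mem_insert _ _)⟩
  let u₂ : T := ⟨t₂, subset_closure (Set.mem_insert_of_mem _ rfl)⟩
  have hgen : closure ({u₁, u₂} : Set T) = ⊤ := by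
    refine map_injective T.subtype_injective ?_
    rw [MonoidHom.map_closure, Set.image_insert_eq, Set.image_singleton, ← MonoidHom.range_eq_map,
      range_subtype]
    rfl
  let α : T →* MulAut (R' ⧸ (rad ρ' R').subgroupOf R') := (uAct ρ' R').comp T.subtype
  have hcomm := pair_commute hp2 _ (R' ⧸ (rad ρ' R').subgroupOf R') rfl hT.u_sq T hTp α u₁ u₂
    (u₁ ^ p ^ j) (u₂ ^ p ^ j') hgen (Exc.of_comp T.subtype T.subtype_injective hexc)
    (Exc.of_comp T.subtype T.subtype_injective hexc')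
  have hone : uAct ρ' R' (t₁ ^ p ^ j * t₂ ^ p ^ j' * (t₁ ^ p ^ j)⁻¹ * (t₂ ^ p ^ j')⁻¹) = 1 := by
    rw [map_mul, map_mul, map_mul, map_inv, map_inv,
      show uAct ρ' R' (t₁ ^ p ^ j) * uAct ρ' R' (t₂ ^ p ^ j') =
        uAct ρ' R' (t₂ ^ p ^ j') * uAct ρ' R' (t₁ ^ p ^ j) from hcomm.eq,
      mul_inv_cancel_right, mul_inv_cancel]
  set k₀ : R' := ⟨⟨g, hRM hg⟩, hg⟩ with hk₀
  have hrad := (uAct_fix_iff ρ' R' _ k₀).1 (by rw [hone]; rfl)
  have hcom := hrad.2 ⟨h, hRM hh⟩ hh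
  obtain ⟨w, hw, hw0⟩ := W.exists_mem_ne_zero_of_ne_bot hl
  have h1 : ρ w₀ (ρ h w) = ρ h (ρ w₀ w) := by
    have h2 := congrArg Subtype.val (LinearMap.congr_fun hcom ⟨w, hw⟩)
    simp only [Module.End.mul_apply, ρ', subRep_apply, Subgroup.coe_mul, Subgroup.coe_inv, hk₀] at h2
    rw [hj, hj'] at h2
    exact h2
  have hmem : ρ h (ρ w₀ w) ∈ W := hMW h (hRM hh) _ (hMW _ (hRM hw₀R) _ hw)
  have h3 : ρ d (ρ h (ρ w₀ w)) = ρ h (ρ w₀ w) := by
    conv_rhs => rw [← h1]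
    rw [hd, ← rep_mul, ← rep_mul, ← rep_mul]
    congr 2
    group
  have hw' : ρ h (ρ w₀ w) ≠ 0 := fun h0 => hw0 (by
    rw [← rep_inv_self ρ w₀ w, ← rep_inv_self ρ h (ρ w₀ w), h0, map_zero, map_zero])
  have h4 : (l ⟨d, hdZ⟩ - 1) • ρ h (ρ w₀ w) = 0 := by
    rw [sub_smul, one_smul, ← mem_weight.1 hmem ⟨d, hdZ⟩, h3, sub_self]
  exact hld (sub_eq_zero.1 ((smul_eq_zero.1 h4).resolve_right hw'))

omit [IsAlgClosed K] [CharP K p] [FiniteDimensional K V] in
/-- An element of a `p`-subgroup which centralises all normalised Sylow subgroups of the `p'`-core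
is trivial. -/
theorem eq_one_of_centralizes [Finite G] (hs : Cfsg.IsPSolvable p G) (h0 : Cfsg.pCore p G = ⊥)
    (P : Subgroup G) (hP : IsPGroup p P) {c : G} (hc : c ∈ P)
    (h : ∀ q : ℕ, q.Prime → q ≠ p → ∀ Q : Subgroup G, IsPGroup q Q →
      P ≤ normalizer (Q : Set G) → ∀ g ∈ Q, Commute c g) : c = 1 := by
  set K0 := Cfsg.pPrimeCore p G with hK0
  haveI : K0.Normal := CfsgLib.Solvable.pPrimeCore_normal p
  have hcopK := CfsgLib.Solvable.coprime_card_pPrimeCore (p := p) (G := G)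
  have hPK : P ≤ normalizer (K0 : Set G) := by rw [Subgroup.normalizer_eq_top]; exact le_top
  obtain ⟨k, hk⟩ := IsPGroup.iff_card.1 hP
  have hcop : (Nat.card P).Coprime (Nat.card K0) := by rw [hk]; exact hcopK.symm.pow_left k
  haveI : Group.IsNilpotent P := hP.isNilpotent
  have hle : K0 ≤ centralizer ({c} : Set G) := by
    set C := K0 ⊓ centralizer ({c} : Set G)
    have hdvd : Nat.card K0 ∣ Nat.card C := by
      refine (Nat.dvd_iff_prime_pow_dvd_dvd _ _).2 fun q i hq hqi => ?_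
      haveI : Fact q.Prime := ⟨hq⟩
      rcases eq_or_ne q p with rfl | hqp
      · rcases Nat.eq_zero_or_pos i with rfl | hi0
        · simp
        · exact absurd (Nat.eq_one_of_dvd_coprimes hcopK ((dvd_pow_self q hi0.ne').trans hqi) dvd_rfl)
            hq.ne_one
      obtain ⟨S, hS⟩ := CfsgLib.CoprimeAct.exists_invariant_sylow hPK hcop (Or.inl inferInstance) q
      have h1 : (S : Subgroup K0).map K0.subtype ≤ C :=
        le_inf (map_subtype_le _) fun g hg => mem_centralizer_singleton_iff.2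
          (h q hq hqp _ (S.2.map _) hS g hg).eq.symm
      refine dvd_trans ?_ (Subgroup.card_dvd_of_le h1)
      rw [Subgroup.card_map_of_injective K0.subtype_injective]
      exact S.pow_dvd_card_of_pow_dvd_card hqi
    have : C = K0 := Subgroup.eq_of_le_of_card_ge inf_le_left (Nat.le_of_dvd Nat.card_pos hdvd)
    exact this ▸ inf_le_right
  have hcK : c ∈ K0 := CfsgLib.FGSA.AbelianSylow.centralizer_pPrimeCore_le h0 hs
    (mem_centralizer_iff.2 fun g hg => mem_centralizer_singleton_iff.1 (hle hg))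
  exact mem_bot.1 (Subgroup.inf_eq_bot_of_coprime hcop ▸ (⟨hc, hcK⟩ : c ∈ P ⊓ K0))

/-- The exceptional primes. -/
theorem exceptional_of_bound {G : Type u} [Group G] (hp2 : p ≠ 2) {q n : ℕ} (hq : q.Prime) {Q : Subgroup G}
    (h : CfsgLib.HallHigman.HBound p q n (p ^ n - 1) Q) :
    q = 2 ∧ (∃ k : ℕ, p = 2 ^ k + 1) ∧ ∃ a ∈ Q, ∃ b ∈ Q, a * b ≠ b * a := by
  rcases h with h | ⟨n₀, m, h1, -, h3, h4, -, hnab⟩
  · exfalso
    have := Nat.one_le_pow n p hp.out.pos
    omega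
  · have hev : 2 ∣ q ^ m := by
      rw [← h4]
      obtain ⟨t, ht⟩ := (hp.out.odd_of_ne_two hp2).pow (n := n₀)
      exact ⟨t, by omega⟩
    have hq2 : q = 2 := ((Nat.prime_dvd_prime_iff_eq Nat.prime_two hq).1
      (Nat.prime_two.dvd_of_dvd_pow hev)).symm
    subst hq2
    refine ⟨rfl, ?_, hnab⟩
    obtain ⟨j, rfl⟩ := Nat.exists_eq_add_of_le h1
    rcases small_fermat (j := j) (k := m) hp2 (by
      have := Nat.one_le_pow (1 + j) p hp.out.pos
      rw [add_comm j 1]; omega) with rfl | ⟨rfl, -⟩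
    · exact ⟨m, by rw [add_zero, pow_one] at h4; have := hp.out.two_le; omega⟩
    · exact ⟨1, rfl⟩

/-- `p ^ (e - 1)`-th powers commute. -/
theorem powers_commute [Finite G] (hp2 : p ≠ 2) (hs : Cfsg.IsPSolvable p G)
    (h0 : Cfsg.pCore p G = ⊥) {e : ℕ} (he : 1 ≤ e) (ρ : Representation K G V)
    (hinj : Function.Injective ρ) (P : Subgroup G) (hP : IsPGroup p P)
    (hexp : ∀ g ∈ P, g ^ p ^ e = 1) (hdeg : ∀ g ∈ P, (ρ g - 1) ^ (p ^ e - 1) = 0)
    {x x' : G} (hx : x ∈ P) (hx' : x' ∈ P) : Commute (x ^ p ^ (e - 1)) (x' ^ p ^ (e - 1)) := by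
  set z := x ^ p ^ (e - 1)
  set z' := x' ^ p ^ (e - 1)
  have hc : z * z' * z⁻¹ * z'⁻¹ = 1 := by
    refine eq_one_of_centralizes hs h0 P hP
      (mul_mem (mul_mem (mul_mem (pow_mem hx _) (pow_mem hx' _)) (inv_mem (pow_mem hx _)))
        (inv_mem (pow_mem hx' _))) fun q hq hqp Q hQ hPQ g hg => ?_
    haveI : Fact q.Prime := ⟨hq⟩
    by_cases hq2 : q = 2
    · subst hq2
      exact commute_on_two_group hp2 he ρ hinj P hP hexp hdeg hx hx' _ Q rfl hQ hPQ g hg
    · have key : ∀ t ∈ P, Commute (t ^ p ^ (e - 1)) g := by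
        intro t ht
        by_contra hne
        have hres := CfsgLib.HallHigman.hallHigmanB (K := K) (p := p) (q := q) hqp.symm e he G V ρ Q t hQ
          (hPQ ht) (hexp t ht) ⟨g, hg, fun h1 => hne ?_⟩ (p ^ e - 1) (hdeg t ht)
        · exact hq2 (exceptional_of_bound hp2 hq hres).1
        · rw [← map_one ρ] at h1
          exact (mul_inv_eq_iff_eq_mul.1 (mul_inv_eq_one.1 (hinj h1))).symm
      exact (((key x hx).mul_left (key x' hx')).mul_left (key x hx).inv_left).mul_left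
        (key x' hx').inv_left
  exact mul_inv_eq_iff_eq_mul.1 (mul_inv_eq_one.1 hc)

/-- `p ^ (e - 1)`-th powers are trivial away from the exceptional case. -/
theorem powers_trivial [Finite G] (hp2 : p ≠ 2) (hs : Cfsg.IsPSolvable p G)
    (h0 : Cfsg.pCore p G = ⊥) {e : ℕ} (he : 1 ≤ e) (ρ : Representation K G V)
    (hinj : Function.Injective ρ)
    (hcond : (¬ ∃ k : ℕ, p = 2 ^ k + 1) ∨
      ∀ S : Subgroup G, IsPGroup 2 S → ∀ a ∈ S, ∀ b ∈ S, a * b = b * a)
    (x : G) (hx : IsPGroup p (zpowers x)) (hexp : x ^ p ^ e = 1)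
    (hdeg : (ρ x - 1) ^ (p ^ e - 1) = 0) : x ^ p ^ (e - 1) = 1 := by
  refine eq_one_of_centralizes hs h0 _ hx (pow_mem (mem_zpowers x) _) fun q hq hqp Q hQ hxQ g hg => ?_
  haveI : Fact q.Prime := ⟨hq⟩
  by_contra hne
  have hres := CfsgLib.HallHigman.hallHigmanB (K := K) (p := p) (q := q) hqp.symm e he G V ρ Q x hQ
    (hxQ (mem_zpowers x)) hexp ⟨g, hg, fun h1 => hne ?_⟩ (p ^ e - 1) hdeg
  · obtain ⟨rfl, hk, a, ha, b, hb, hab⟩ := exceptional_of_bound hp2 hq hres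
    rcases hcond with hc | hc
    · exact hc hk
    · exact hab (hc Q hQ a ha b hb)
  · rw [← map_one ρ] at h1
    exact (mul_inv_eq_iff_eq_mul.1 (mul_inv_eq_one.1 (hinj h1))).symm

end CfsgLib.HHExponent
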